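import Mathlib

/-!
# Words for the point stabiliser of `²F₄(2)` on 4060 points (helper56)

`invA0 … invA7`: 1024 words in the letters `0 … 3` (generators of the Tits group) and `4` (the outer
element `fz`) fixing the point `2305`, the `i`-th of them mapping the point `2306` to `2306 + i`;
`invB`: 20 words fixing `2305` and `2306`.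
-/

set_option autoImplicit false

namespace Cfsg.Agent.Helper56.Tits

noncomputable def invA0 : List (List ℕ) := [[],[2,3,2,3,1,0,1],[3,0,1,0,1,0,3],[2,3,2,3,1,0,1,2,3,2,3,1,0,1],[3,0,1,0,1,0,3,2,3,2,3,1,0,1],[2,3,2,3,1,0,1,3,0,1,0,1,0,3],[1,0,2,1,0,4,2,0,1,2,3,2,4,2,4],[4,1,0,3,0,2,3,0,2,0,2,0,4,1,0],[2,3,2,4,2,4,3,0,4,3,0,2,4,1,3],[0,1,3,4,3,1,0,3,2,1,3,2,1,0,3],[0,1,3,4,3,1,0,2,0,4,3,4,3,1],[1,3,2,0,3,4,3,2,0,3,4,1],[1,0,1,3,2,4,3,2,4,2,1,4],[1,3,2,0,3,4,1,2,1,0,2,0,1,3,2],[1,3,2,0,4,3,2,4,2,4,1,2,0,1],[4,3,2,0,3,1,3,4,1,0],[1,2,0,3,4,3,4,3,2],[2,4,2,1,3,1,2,4,1,4,2,0],[0,3,4,1,4,1,3,0,2,0,2,0,4,1,0],[0,1,3,4,3,0,1,3,2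,3,2],[4,3,1,4,2,0,3,1,0,1,2,3,1,2,1,3],[2,3,4,3,2,4,2,1,4],[3,1,2,1,3,2,1,0,2,1,3,0,4,3,1,0],[1,2,3,1,0,2,3,4,2,3,4,1,0],[1,3,2,0,3,2,1,3,0,2,3,0,4],[0,1,3,4,3,1,3,0,2,1,3,2,0,1,0],[1,0,4,3,0,2,3,1,2,1,0,2,0,1,3,2],[4,3,1,4,2,0,1,2,3,0,1,4],[3,0,1,2,3,1,0,4,3,4],[0,1,0,2,3,1,2,1,0,1,0,3],[0,2,0,4,3,4,3,1],[0,1,3,4,3,4,2,3,4,2,3,1],[1,0,3,2,0,1,3,4,3,0,1,3,4],[0,1,3,4,3,1,0,3,2,3,1,2,3,4],[1,0,4,2,3,4,3,1,0,4,1,3,1],[3,1,4,2,3,4,1,0,2,0,2,0,4,1,0],[2,3,2,3,1,0,1,0,4,3,4,2,3,0],[1,2,1,4,2,4,3,2,1,0,1,3,4,3,1],[1,3,2,0,4,3,4,2,1,4,1,4],[1,3,1,4,1,3,1,0],[4,3,4,1,2,3,1,2,3,2,0,3,4,1],[1,0,1,3,2,3,4,1,4,3,2,3,1,0],[3,2,0,1,2,0,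1,3,4,0,1,4,2,0],[2,1,3,0,2,0,4,1,3,4,2,0,4,1,0],[0,3,4,1,4,1,3,4,1,0,3,2,1,3,1],[0,1,4,2,0,4,1,0,3,4,3,0,2,4],[2,1,0,2,1,4,1,3,2,0,1,4,2,0],[0,2,0,4,1,0,2,1,0,1,3,4,2,4,2],[0,1,4,2,1,3,4,1,4,1,3,1,0],[3,1,0,3,1,3,1,0,1,3],[1,2,0,3,4,3,0,3,2,4,2,1,4],[0,1,3,4,3,1,3,4,2,3,2,4,1,2,4],[1,0,1,3,2,3,2],[1,2,3,1,0,2,3,0,3,1,4,1,3,1,0],[0,2,0,4,1,0,2,3,4,1,4,3,0,1,2],[1,3,2,0,3,4,1,0,3,2,0,4,3,4],[1,0,4,2,3,4,3,4,3,1],[0,1,4,2,1,0,4,3,2,4,1],[4,1,0,3,4,3,0,2,4],[1,3,1,4,1,3,0,4,3,2,4,1],[2,3,2,3,1,0,3,1,2,3,0,1,4,2],[3,4,1,4,3,2,0,1,2],[2,3,2,3,1,0,3,1,4,1,3,1,0],[0,4,2,0,4,2,3,2,0,1,3,4,3,1],[2,4,3,0,2,1,3,4,3,1,0,1,3,2,3,2],[2,4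,1,4,3,2,3,1,0],[3,1,2,1,3,2,1,0,3,2,4,2,4],[1,4,3,4,1,2,4,3,0,2,0,4,1,0],[3,4,2,1,4,0,3,1,4,0,1,4,2,0],[0,1,4,2,0,1,4,1,0,3,2,3,1,4],[4,2,3,4,1,3,2,0,4,3,0,2,4,1,3],[4,3,0,2,1,3,4,3,2,4,2,1,4,2,0,1,0],[1,0,2,1,0,4,2,0,1],[2,3,1,0,2,0,1,2,1,0,4,3,0,2,3,1],[2,3,2,3,1,0,1,3,2,4,1,3,4,2,4,3],[4,2,3,4,1,3,0,1,2,0,1,3,4],[2,1,0,2,0,1,3,0,1,2,3,1,2,1,3],[1,3,0,4,3,1,0,1,3,1,2,3,0,1,4,2],[0,2,0,4,1,0,2,4,1,4,3,2,3,1,0],[4,2,1,0,2,1,3,0,1],[0,2,0,4,1,0,1,2,0,3,4,3,4,3,2],[4,2,3,4,1,3,2,3,1,3,2,0,3,4,1],[3,0,1,0,1,0,3,1,0,1,3,2,3,2],[0,1,4,2,4,3,4,2,3,2,0,4,1,0],[2,4,2,1,3,4,2,0,1,0],[2,3,2,4,2,0,1,2,1,3,4,3,1,3],[1,0,1,3,2,3,1,0,2,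0,1,3,2],[2,0,3,1,0,4,1,0,4,3,4,3,4,2,3,0],[0,4,3,4,2,3,4,3,4,2,3,0],[4,1,3,4,1,4,0,1,0,3,4,3,4],[1,0,4,2,3,4,1,3,4,1,4,1,3,0,2],[3,4,1,4,3,2,0,1,3,2,3,1,0,1],[3,0,1,0,1,0,3,2,3,2,4,2,4],[1,3,0,4,3,1,0,3,1,0,3,1,0,1,3],[3,0,1,0,1,0,3,1,4,2,3,4,2,3,1],[2,3,0,4,3,1,2,0,3,4,1,4,2,0],[0,3,4,1,4,1,3,0,3,2,4,2,4],[1,3,2,0,3,4,1,0,1,4,2,0],[4,2,1,3,4,2,1,0,2,0,1,3,4,3,1],[2,0,3,2,0,3,0,3,4,1,4,2,4,0],[0,2,3,0,3,0,2,4,3,0,4,3,1,0],[1,4,2,3,4,2,3,0,1,3,2,3,2],[3,1,0,1,3,0,1,2,0,1,2,0,1,3,4],[0,2,0,4,1,0],[4,2,1,4,3,1,2,0,3],[2,3,0,4,3,1,2,0,3,2,3,4,1,3,2,3],[2,1,0,2,1,4,1,4,3,2,4,2,1,4],[0,1,3,4,3,4,1,3,2,4,3,2,0],[2,0,1,0,1,0,3,1,0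,2,0,1,2],[1,0,1,3,2,3,2,3,0,1,0,1,0,3],[4,1,3,4,1,4,2,4,0],[2,3,4,1,4,3,0,1,2,1,3,2,0,3,4,1],[2,3,2,3,1,2,1,0,4,2,0,1],[1,0,2,4,1,2,0,1],[2,4,1,4,3,2,3,4,2,1,3,4,3,1],[2,1,0,2,1,4,1,3,2,0,1,3,4,3,1],[1,3,0,4,3,4,2,0,2,3,2,4,2,4],[2,0,1,0,1,0,2,1,0,4,3,0,2,3,1],[2,4,3,1,4,2,4,3,1,0],[1,3,2,0,3,4,1,4,2,1,0,2,1,3,0,1],[2,0,1,0,1,0,1,0,2,0,1,3,2],[1,3,1,2,3,0,1,4,2,0,3,2,0,4,3,4],[4,1,0,3,0,2,3,0,2],[1,2,1,4,2,4,3,2,0,2,1,0,4,2,0,1],[0,1,0,2,0,4,1,2,0,4,1,0,1,3,2,3,2],[0,1,3,4,3,4,2,4,2,1,4,1,4],[0,1,4,2,4,1,3,2,3,0,1,0,4,1],[4,2,1,0,2,1,3,0,1,3,0,1,0,1,0,3]]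

noncomputable def invA1 : List (List ℕ) := [[4,3,0,2,1,3,4,3,2,0,1,4,2,0],[4,3,4,1,2,3,1,2,1],[1,2,3,2,3,2,3,4,3,0,1,3,4],[1,2,4,3,2,1,0,2,3],[1,0,2,4,1,2,0,4,3,4,1,2,4,3],[2,1,0,2,0,1,3,2],[0,2,0,4,1,0,1,4,3,4,1,2,4,3],[0,1,0,2,3,1,2,0,3],[2,1,0,3,0,1,4,3,2,0,2,0,4,1,0],[1,0,1,3,2,3,2,3,0,2,1,3,2,0,1,0],[0,1,3,1,0,4,1,2,0,4,3,2,0,4,1],[1,0,3,1,2,0,1,2,4,1,4,2,0],[4,3,4,1,2,3,1,2,1,2,3,2,4,2,4],[3,1,0,1,3,0,1,4,2,3,2,4,1,2,4],[0,3,1,2,3,0,4,1,2,1,3,4,3,1],[2,3,2,4,2,4],[0,4,3,4,2,1,2,3,0,4,1,2,0],[0,4,3,4,2,3,1,3,4,3,1],[1,4,2,3,4,2,3,1],[0,2,3,0,4,2,3,1,0,4,1],[1,0,1,3,2,3,2,0,3,2,0,4,3,4],[2,3,0,1,0,4,1,0,2,3,1,0,1],[4,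1,0,3,0,2,3,1,2,3,1,2,1,3],[0,2,4,2,3,1,2,1,0,1,0,3],[3,1,0,3,1,0,1,3,0,2,0,4,1,0],[3,4,3,4,2,4,2,1,3,2,0,4,3,4],[0,2,1,4,3,2,1,3,0],[0,2,0,4,3,1,0,4,1,3,1],[3,0,1,2,3,1,2,3,0],[1,0,1,3,2,3,2,0,3,2,3,1,2,3,4],[0,2,3,0,3,0,2,4,3,0,4,3,4,2,0],[3,2,4,1,3,4,2,4,3,0,1,4,2,0],[2,3,1,0,2,3,0,1,4,3,2],[2,1,3,1,2,3,0,1,4],[3,4,2,3,2,4,1,2,4,2,3,2,4,2,4],[3,2,4,1,3,4,3,2,3,2,0,1],[0,1,0,2,4,2,1,3,0,1],[2,1,0,1,3,4,2,4,3,2,4,2,4],[1,0,1,3,2,3,0,3,2,0,3,0,1,0,4],[1,3,2,0,3,2,0,3,0,3,2,0],[1,4,1,0,3,2,3,1,4,0,1,3,4,3,1],[2,4,1,4,3,2,4,3,1],[4,2,1,3,4,2,1,0,3,2,4,2,4],[4,2,1,3,4,2,1,0,1,4,2,4,2,4,1,4],[1,0,4,3,0,2,3,0,1,3,2,3,2],[1,4,2,3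,4,2,3,0,2,4,1,2,0,1],[1,0,3,1,2,0,1,2,0,2,0,4,2,3,2],[2,3,2,3,1,2,4,1,2,0,1],[0,4,2,0,4,3,1,0,1],[1,0,4,2,3,4,3,4,2,0,3,4,1],[1,3,2,0,4,3,2,3,4,1,2,4,3],[0,2,0,4,1,0,1,0,4,2,3,4,1,0],[0,1,0,4,3,2,0,3,4,1,2,4,3],[0,3,2,3,1,2,3,4,1,0,1,3,2,3,2],[2,1,0,2,0,1,3,1,3,1,2,3,0,1,4],[0,4,3,4,2,3,0,1,3,1,4,1,3,1,0],[1,0,1,3,4,2,3,2,1,3,2,3,0],[4,2,1,0,2,1,3,0,1,0,1,4,2,0],[0,1,3,2,3,0,4,1,0,4,2],[0,3,2,0,4,3,0,3,4,1,2,3,1,2,1],[2,0,1,2,3,1,2,1,3,1,0,1,3,2,3,2],[1,2,0,3,4,3,4,3,2,0,1,3,4,3,1],[3,0,1,0,1,0,4,3,4,2,4,2,1,0],[2,0,1,0,1,0,2,3,0,4,2,3,2,3,2,0,1],[3,0,1,0,1,0,1,4,3,2,4,2,1,0],[0,1,3,4,3,2,1,4,2,4,3,2,1],[0,1,4,2,1,3,4,3,0,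1,3,2,3,2],[2,0,1,2,3,1,2,1,3,0,2,0,4,1,0],[1,0,1,3,4,2,4,1,3,2,0,3,4,1],[3,0,2,1,3,2,0,1,0,1,4,2,3,4,2,3,1],[0,1,3,4,3,2,4,3,0,1,3,4],[2,3,2,3,1,0,1,4,3,4,1,2,3,1,2,1],[2,0,1,2,0,4,3,1,2,0,3,4,2,3,0],[1,3,2,0,3,4,1,0,4,3,2,1,3,2,3,0],[0,4,3,1,0,2,1,0,2,3,0,1,4,2,0],[1,4,3,4,1,2,4,3,1,0,1,3,2,3,2],[0,1,0,4,3,2,0,2,3,4,2,3,1],[3,1,4,3,2,4,2,1,2,0,4,1,0],[3,1,0,1,3,0,1,3,0,4,3,4,2,3,0],[0,1,4,2,0,3,4,2,1,4,0,3,1,4],[3,0,1,0,1,0,3,0,1,0,2,3,1,2,0,3],[4,3,2,0,3,1,2,3,0,2,3,1],[4,1,3,1,4,3,2,1,0,2,0,1,0,1,0,2],[3,0,2,1,3,2,0,1,0],[3,4,1,4,3,2,0,1,3,2,4,2,4],[0,1,3,4,3,1,3,0,1,0,1,0,3],[2,3,1,0,2,0,1,2],[1,3,0,4,3,1,0,1,4,3,4,1,2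,4,3],[3,1,0,3,1,0,1,3,2,1,0,2,0,1,3,2],[1,0,3,2,0,1,3,2,0,2,4,1,2,0,1],[2,3,4,3,2,4,2,1,2,0,4,2,3,2],[3,1,4,2,3,4,2,0,4,3,1,2,0,4],[2,3,2,3,1,0,1,2,3,2,4,2,4],[2,4,1,4,3,2,3,4,2,3,2,0,4,3,4],[1,0,4,3,0,2,0,4,3,4,2,0],[1,0,2,4,1,2,1,3,2,3,2],[3,1,4,2,3,4,1,0,2,1,0,2,4,1,2,0,1],[2,3,2,3,1,0,4,2,3,4,2,3,1],[1,4,3,4,1,2,4,3],[3,1,0,4,2,0,3,4,1,0,1,3,0,1,3],[0,3,2,0,4,3,4],[3,1,4,3,2,4,2,1,0],[1,3,2,0,3,4,1,2,3,2,3,1,0,1],[0,2,0,4,1,0,2,3,2,3,1,0,1],[2,3,2,4,2,0,1,0,3,4,3,0,2,4],[3,0,2,1,3,2,0,3,1,0,4,1,3,1],[3,0,1,0,1,0,3,1,3,2,0,3,4,1],[0,1,3,4,3,1,2,3,2,4,2,4],[3,1,0,3,1,0,4,2,3,4,1,0,2],[0,4,1,3,2,3,0,1,0,3,0,2,3,1],[2,3,2,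3,1,0,1,0,2,1,4,3,2,1,3,0],[4,1,3,1,4,3,2,0,2,3,1,2,0,3],[0,4,1,0,3,2,1,3,1,4,3,1,4,2,0,3,1],[3,1,0,3,1,0,2,1,3,2,1,0,2],[0,3,2,3,1,2,3,4],[0,1,4,3,0,4,2,3,1,0,4,1],[2,0,1,4,3,2,0,4,1,3],[3,0,1,2,3,1,2,3,1,4,2,0],[2,3,0,1,0,1,0,3,2,0,2,0,4,1,0],[2,1,0,2,1,4,1,3,2,0,2,0,4,1,0],[2,3,2,4,2,4,3,1,4,3,2,4,2,1,0],[1,4,2,3,4,2,0,4,3,1,0],[3,4,1,4,3,2,0,1,4,3,1,4,2,0,3,1],[0,1,0,4,3,2,4,2,4,3,0,1,3,4],[2,0,1,2,3,1,2,1,3],[0,4,3,4,2,4,1,4,1,3,0,2],[2,3,1,0,2,0,3,1,2,3,0,1,4],[2,0,3,2,0,3,0,1,0,4]]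

noncomputable def invA2 : List (List ℕ) := [[4,2,0,1,0,3,4,3,4,1,0,1,3,2,3,2],[1,2,1,3,2,1,4,2,1,3,4,3,2],[4,2,1,3,4,2,1,0,3,2,3,1,0,1],[3,1,0,1,3,0,1,0,1,0,1,0,3],[0,1,4,2,4,3,1,0,2,1,0,2,3],[1,0,2,4,1,2,0,2,1,4,2,4,3,2,1],[1,0,1,3,2,0,4,1,0,3,0,1,2],[2,3,1,0,2,0,1,2,3,0,1,0,1,0,3],[2,3,0,4,3,1,2,0,3,0,4,2,3,2,4,2,4],[2,3,2,4,2,4,0,2,0,4,1,0],[0,1,3,4,3,0,2,3,2,3,2,4,3],[3,0,4,2,3,2,3,2,0,1],[0,4,3,4,2,3,0,2,0,1,0,1,0,2],[0,4,3,4,2,3,0,2,3,0,1,0,4,1,0,3,2],[0,2,0,4,1,3,4,1,4,1,3,0,2],[2,3,2,4,2,3,4,2,3,0],[1,2,3,1,0,2,3,1,3,2,3,2],[1,0,2,4,1,2,3,1,2,0,1,2,0,4],[2,0,3,1,0,4,1,0,4,3,1,4,2,0],[4,1,3,1,4,3,2,1,2,3,0,3,0,2,4,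1],[1,3,2,0,3,4,1,0,2,0,4,1,0],[1,3,0,4,3,1,0,2,3,1,0,2,0,1,2],[2,1,0,2,0,1,2,3,1,0,1],[1,4,2,3,4,2,3,1,3,0,1,0,1,0,3],[0,2,0,4,1,3,2,3,1,2,3,4],[4,2,0,1,0,3,0,2,3,0],[2,3,2,4,2,3,2,1,3,2,3,0],[0,2,4,2,3,1,2,0,3],[4,3,4,1,2,3,1,2,0,2,4,1,2,0,1],[2,0,1,0,1,0,2],[0,1,4,2,0,1,3,1,4,1,4,3,1],[4,3,4,1,2,3,1,4,3,0,1,3,4],[1,0,3,1,2,0,4,2,0,1,0],[0,4,3,4,2,3,0,4,2,1,3,4,2,1,0,2],[1,0,3,1,2,0,1,2,0,4],[2,0,1,2,3,1,2,1,0,1,0,1,0,3],[3,4,3,4,2,4,2,1,0],[1,4,2,4,2,1,4,1,4,0,1,3,4,3,1],[3,4,3,4,2,4,2,0,4,3,2,4,1],[0,4,3,2,1,3,2,3,0],[0,1,4,2,0,3,1,2,1,3,2,1,0,2],[1,3,1,4,1,3,1,4,2,0,4,2,3,2],[0,4,2,0,3,0,4,3,0,1,0,4],[2,3,2,4,2,4,1,3,2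,0,3,4,1],[2,3,0,1,0,4,1,0,2,4,2,4],[3,0,1,0,1,0,3,4,3,0,2,1,3,4,3,2],[1,0,2,1,0,4,2,0,3,0,4,3,1,0],[2,1,0,3,0,1,4,3,2],[2,1,0,2,0,1,3,4,2,1,3,1,2,0,4],[0,1,4,1,4,3,2,1,3,1,4,2,0],[0,1,4,2,0,1,0,1,3,2,3,2],[0,1,4,1,4,3,2,1,3,4,3,4,2,3,0],[0,3,2,3,1,2,3,0,3,0,2,1,3,4,3,2],[0,3,2,3,1,2,3,4,2,3,2,3,1,0,1],[4,3,2,0,3,1,2,4,1,0,2,0,4,1,0],[3,2,4,1,3,4,2,4,0,1,2,3,1,2,3,0],[1,3,0,4,3,1,3,2,0,4,3,4],[0,1,3,4,3,1,3,4,3,4,2,4,2,1,0],[0,2,0,4,1,4,3,4,1,3,2,1,0,3],[1,3,1,4,1,3,1,0,4,3,4,1,2,3,1,2,1],[2,0,1,0,1,0,1,3,1,2,3,0,1,4],[1,0,2,1,0,4,2,0,1,0,1,4,2,0],[1,0,3,2,0,1,3,2,3,0,4,3,1,0],[1,3,1,4,1,3,4,2,1,0,4,3,2,4,1],[2,1,4,2,4,2,4,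1,4,2,3,2,4,2,4],[3,0,1,0,1,2,1,3,2,0,1,0],[0,4,3,4,2,3,0,2,3,4,1,4,3,0,1,2],[4,3,2,0,3,1,2,4,1],[0,4,3,0,4,3,0,1,0,2,0,4],[2,3,2,3,1,0,1,2,3,1,0,2,0,1,2],[0,1,2,3,0,4,1,3,1,4,1,4,2,0],[2,1,0,2,3,0,4,1,0,4,3],[1,4,1,3,2,4,3,2,1,0,4,3,2,4,1],[1,3,1,2,3,0,1,4,3,2,4,2,4],[0,4,1,0,3,2,1,3,1,2],[1,0,2,1,0,4,2,3,2,0,1,3,2,1],[4,3,2,0,3,1,2,0,2,3,4,2,3,1],[1,0,2,1,0,4,2,4,2,3,4,1,0],[0,2,0,4,1,0,1,3,2,0,3,4,1],[0,1,0,4,3,2,4,1,0,2,0,4,1,0],[0,1,4,2,1,3,4,3,1],[4,1,2,1,3,4,3,1,3],[3,4,2,3,2,4,1,2,4,1,4,3,4,1,2,4,3],[3,0,1,2,3,1,2,3,1,3,4,2,0,3,4,1],[1,2,4,3,0,1,3,4,0,1,4,2,0],[1,0,1,3,2,3,2,0,4,3,4,2,3,0],[1,2,0,3,4,3,4,3,2,0,2,0,4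,1,0],[3,1,0,1,3,0,1,3,0,3,2,0,4,3,4],[0,3,2,3,1,2,3,4,1,4,2,3,4,2,3,1],[2,1,4,2,4,2,4,1,3,4,2,3,0],[2,0,3,2,0,4,3,0,2,4],[1,0,2,4,1,2,0,3,2,0,3,4,1],[2,3,2,3,1,0,1,0,3,2,0,4,3,4],[2,3,0,1,4,1,0,2,3,1,0,1],[0,1,3,4,3,0,4,2,3,4,3,4,3,1],[1,0,2,4,1,2,0,3,0,4,3,1,0],[2,3,2,3,1,0,1,4,3,2,0,3,1,2,4,1],[0,1,4,2,3,2,0,4,3,4],[1,3,0,4,3,4,2,0,1,3,2,0,3,4,1],[2,0,1,2,3,1,2,1,3,2,3,2,3,1,0,1],[1,3,2,0,3,4,1],[1,3,0,4,3,1,0,1,3,2,0,3,4,1],[0,4,1,2,0,4,2,3,0,4,3,2],[4,2,1,0,2,1,3,0,2,0,3,4,3,4,3,2],[1,2,1,4,2,4,2,3,2,3,2,1],[0,1,4,2,4,3,1,0,3,0,4,2,1],[0,1,0,4,3,2,4,1,3,1,0,3,1,0,1,3],[3,4,2,1,4,0,3,0,3,2,1,3,1,2],[1,4,2,3,4,2,3,4,2,3,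4,2,3,1],[1,3,1,4,1,3,4,2,4,3,4,2,3,0],[2,0,1,2,3,1,2,1,3,0,1,4,2,0],[2,3,2,3,1,0,1,0,3,2,3,1,2,3,4],[1,0,4,3,0,2,1,4,1,3,1,0],[2,3,4,3,2,4,2,1,4,2,3,2,3,1,0,1],[3,4,3,4,2,4,2,1,2,4,2,3,1,2,0,3],[0,3,2,3,1,2,4,2,3,0],[0,4,1,3,2,3,0,3,2,4,3,2,0],[0,1,4,2,0,2,1,0,2,0,1,3,2],[0,1,3,1,0,4,1,3,2,1,4,2,4,3,2,1],[2,3,1,0,4,1,3,0,4,1,0,4,3],[3,1,4,3,2,4,2,3,4,3,1],[4,2,3,4,1,3,4,1,3,4,2,4,3],[2,3,1,0,4,1,2,0,1,3,2,4,2,4],[2,3,4,1,4,3,2,1,4,1,3,2],[0,2,0,4,3,4,3,0,4,2,3,4,1,0],[2,0,3,1,0,4,1,0,4,3,0],[1,3,0,4,2,3,0,4,1,0,4,2],[0,1,3,4,1,4,1,3,4,2,0]]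

noncomputable def invA3 : List (List ℕ) := [[2,3,4,2,3,4,1,2,3,0,2,0,4,1,0],[3,1,0,4,2,0,3,4,3],[3,1,4,2,3,4,0,1,0,2],[2,4,3,1,4,2,0,1,4,1,3,1,0],[0,1,4,2,0,2,1,0,3,0,1,4,3,2],[0,3,2,1,3,2,1,0,1,0,3,1,0,1,3],[2,0,4,1,0,3,2,1,0,4,3,1,0],[4,1,3,4,1,4,2,0,3,4,2,3,0],[2,3,0,4,1,0,3,0,1,2],[0,1,4,2,4,3,4,2,3,0],[0,3,1,2,3,0,4,1,2,0],[0,2,1,4,3,2,1,3,4,3,4,2,3,0],[0,3,2,3,1,2,3,4,1,4,3,4,1,2,4,3],[0,4,3,2,1,3,0,4,3,4],[0,2,1,4,3,2,1,3,1,4,2,0],[1,0,1,3,2,3,2,0,1,4,2,0],[0,4,1,2,0,4,2,3,0,4,2,4,2,4],[1,0,1,3,2,3,1,4,2,4,2,4,1,4],[1,4,1,3,2,4,3,2,0],[1,0,4,2,1,3,0,2,3,4,2,0,4,1,0],[4,1,0,3,0,2,3,0,2,0,1,3,4,3,1],[2,1,0,2,0,1,3,2,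0,1,4,2,0],[2,1,0,2,0,1,3,2,1,3,2,0,3,4,1],[2,3,2,4,2,4,1,2,4,3,0,1,3,4],[0,1,3,4,3,0,3,2,0,1,3,2,1],[0,4,3,1,0,3,0,4,2,1],[2,4,2,1,3,1,2,4,2,0,4,1,0],[3,4,2,1,4,0,3,1,4,0,1,3,4,3,1],[0,1,4,2,0,3,0,1,2,3,1,2,3,0],[4,3,2,0,3,1,2,4,2,3,2,3,2,3,2,1],[4,1,3,4,1,4,2,4,1,4,2,0],[1,2,3,1,0,2,3,0,3,2,0,3,4,1],[1,0,4,2,3,4,1,2,0,4,1,0],[0,2,1,4,3,2,1,3,1,3,4,3,1],[1,3,0,4,3,0,4,3,2,4,1],[4,3,0,2,1,3,4,3,2],[1,0,1,3,2,3,0,3,1,0,4,1,0,4,3,0],[0,2,0,4,3,4,3,0,1,3,2,3,2],[4,3,1,4,2,0,3,1,2,0,1,4,2,0],[0,1,4,2,0,1,2,3,2,3,2,3,2,1],[4,2,0,4,1,0,4,3,1,4,1,4,2,0],[1,0,1,3,2,1,0,4,1,2,0,1,2],[1,0,4,3,0,2,1,2,3,0,1,4,2],[2,3,4,1,4,3,0,1,3,2,3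,1,0,1],[1,0,4,3,0,2,3,2,1,4,2,4,3,2,1],[3,1,0,1,3,0,1,3,0,1,4,2,0],[1,0,4,3,0,2,3,1],[0,3,2,3,1,2,3,4,0,2,0,4,1,0],[2,0,1,0,4,3,2,4,3,1,0,1,3],[1,3,0,4,3,1,0,2,3,2,4,2,4],[0,2,3,0,3,0,2,4,1,0,1,4,2,0],[0,4,3,4,2,3,0,3,1,0,3,1,0,1,3],[0,1,4,2,0,1,4,3,4,1,2,4,3],[0,4,3,4,2,3,2,0,4,1,0],[0,1,4,2,0,1,2,1,4,2,4,3,2,1],[1,2,3,2,3,2,3,2,1],[2,1,0,2,1,4,1,3,0,1,0,1,0,2],[3,4,1,4,3,2,0,3,1,2,3,0,1,4],[0,1,2,3,0,4,1,3,0,3,4,3,0,2,4],[1,4,2,4,2,1,4,1,4],[1,4,1,3,2,4,3,2,1,4,2,0],[2,3,0,1,0,1,4,3,0,4,3,0,2,1],[1,2,3,2,3,2,3,2,1,0,1,3,4,3,1],[1,4,2,3,4,2,3,1,2,0,1,0,1,0,2],[0,3,2,0,4,3,4,1,0,4,2,3,4,1,0],[1,2,3,1,0,2,3,2,1,0,4,2,0,1],[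2,1,0,3,0,4,1,0,4,3,2],[3,0,1,2,3,1,2,3,0,2,3,2,4,2,4],[4,2,1,4,2,0,1,0,3,4,2,3,2,4,1,2,4],[0,4,2,0,4,2,4,3,2,4,2,1,4],[2,3,2,4,2,4,0,1,4,2,0],[1,0,4,2,3,4,1,0,2,3,1,0,2,0,1,2],[3,0,4,3,0,2,4,1,3,2,3,2,3,1,0,1],[0,4,3,4,2,3,0,1,3,0,4,3,1,0],[2,0,1,0,1,0,3,4,2,3,4,1,2,3],[1,3,2,0,3,4,1,0,2,0,4,3,4,3,1],[1,0,1,3,2,3,1,0,1,3,4,2,4,2],[2,3,2,4,2,4,2,0,1,2,3,1,2,1,3],[3,0,1,2,3,1,3,1,2,3,4],[0,1,4,2,0,4,2,1,3,4,2,1,0,2],[0,3,2,0,4,3,0,2,3,4,1,3,2,3],[0,3,2,0,4,3,2,0,4,2,3,2],[0,1,3,4,2,0,4,3,2,0,4,1],[2,0,1,0,1,0,2,1,3,2,0,3,4,1],[0,2,0,4,1,0,3,1,4,2,3,4,1,0,2],[2,0,3,2,0,3,0,1,4,1,3,4,3,1],[2,4,3,1,4,2,0,2,0,3,4,1],[4,1,2,1,3,4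,3,1,3,2,3,2,3,1,0,1],[1,0,2,4,1,3,2,3,2,4,3],[2,3,0,4,1,0,3,2,0,1,3,2],[0,3,2,1,3,2,0,1,0,3],[3,0,4,3,1,2,0,3,0,4,2],[1,0,4,3,0,2,0,4,3,1,0],[0,1,4,2,4,3,2,1,3,2,3,0],[1,3,2,0,4,3,2,4,1,3,2,3,2],[3,1,0,3,1,0,1,3],[1,0,3,2,0,1,3,2,0,2,1,0,4,2,0,1],[0,4,3,2,1,3,2,3,0,2,0,1,0,1,0,2],[1,4,3,4,1,2,3,1,2,0,3,0,4,2],[2,3,2,4,2,0,2,1,3,1,2,4,0,2],[4,1,0,3,0,2,3,0,3,1,0,2,0,1,2],[4,1,3,1,4,3,2,3,1,0,4,1,3,1],[2,1,3,0,2,0,4,1,3,0,4],[1,3,1,4,1,3,1,3,2,0,4,3,4],[3,0,2,1,3,2,0,1,3,2,0,4,3,4],[3,2,4,1,3,4,2,4,3,0,2,0,4,1,0],[0,4,2,0,4,2,3,2,0,1,4,2,0],[4,3,1,4,2,0,3,1,2],[2,0,4,2,0,4,3,1,0,1,2],[0,4,3,4,2,3,0],[4,2,1,0,2,1,3,2,4,1,2,0,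1],[1,0,2,4,1,2,4,2,0,3,0,3,2,0],[0,4,3,1,0,3,0,4,2,3,0,4,3,1,0],[1,2,0,3,4,3,4,3,2,0,4,2,0,4,2,3,2],[3,1,0,3,1,0,1,3,0,1,3,4,3,1],[4,3,0,2,1,3,4,0,1,0,1,0,3,2],[2,0,3,2,0,3,0,1,4,2,0,4,1,0],[4,2,0,1,0,3,4,3,4,2,3,2,4,2,4],[0,2,0,4,1,0,4,3,0,2,1,3,4,3,2],[3,2,3,1,0,4,3,2,0,3,4,2,3,0],[2,4,1,4,3,2,3,4,2,0],[2,3,2,4,2,1,3,2,3,0,1,0,4,1],[1,0,4,3,0,2,3,1,0,1,4,2,0],[1,2,3,1,0,2,3,2,4,1,2,0,1],[0,1,3,4,3,0,2,4,1,2,0,1],[3,2,4,1,3,4,2,4,3,1,0,1,3,2,3,2],[1,2,4,3,0,1,3,4,0,2,0,4,1,0],[0,4,2,0,3,4,2,3,0,2]]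

noncomputable def invA4 : List (List ℕ) := [[4,3,2,0,3,1,2,4,1,0,1,4,2,0],[4,2,1,4,2,0,3,4,3,1],[1,4,1,3,2,4,3,2,3,2,3,1,2,3,4],[1,3,0,4,3,2,3,0,4,1,3,1,0,4],[3,0,1,0,1,0,3,0,1,4,2,0],[1,4,3,4,1,2,4,3,2,3,2,4,2,4],[3,2,0,1,2,0,1,3,4,1,0,1,3,2,3,2],[1,3,0,4,3,4,2,3,2,0,4,3,4],[1,3,1,2,3,0,1,0,2,1,3,1,2,0,4],[0,1,3,1,0,4,1,3,4,2,3,4,2,3,1],[0,2,3,0,3,0,2,4,1,2,3,2,3,1,0,1],[0,3,4,1,4,1,3,0,2],[1,3,0,4,3,1,0,1,0,3,2,0,1,3,2,1],[2,0,1,0,1,0,2,3,1,0,3,1,0,1,3],[3,1,0,1,3,0,1,3],[1,0,2,4,1,2,0,3,0,4,3,4,2,0],[3,2,1,0,4,3,2,0,4,3,2],[1,3,0,4,3,4,2,1,0,4,3,2,4,1],[2,0,1,0,4,3,2,3,2,4,2,1,0],[1,0,2,3,2,3,2,4,3,0,1,4,2,0],[2,3,0,1,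4,1,0,3,2,0,1,3,4,3,1],[2,1,0,2,0,1,3,2,0,2,0,4,1,0],[0,1,0,4,3,2,4,2,1,4,2,4,3,2,1],[4,1,3,4,1,4,2,4,1,3,4,3,1],[0,4,3,4,3,1,2,3,4],[0,1,4,2,0,4,1,3,4,1,4,2,4,0],[1,2,4,3,0,1,4,2,3,0],[0,1,4,2,0,3,2,0,1,2,0,1,3,4],[1,3,0,4,3,1,2,4,2,3,1,2,0,3],[3,0,1,2,3,1,2,3,1,3,4,3,1],[0,3,2,0,4,3,0,2,1,4,2,0,1,0],[2,1,3,0,2,0,4,1,3,4,1,4,2,0],[0,1,3,4,3,1,4,1,0,3,0,2,3,0,2],[0,1,4,2,0,3,0,2,1,3,2,0,1,0],[2,3,2,3,1,0,1,4,2,1,4,2,0,1,0],[3,1,4,2,3,4,1,0,2],[0,4,1,3,4,1,2,0,4,3],[0,3,2,0,4,3,4,1,0,2,4,1,2,0,1],[0,1,4,2,0,4,1,3,1,4,3,2,1,0],[1,3,1,4,1,3,1,0,1,3,2,0,3,4,1],[1,0,2,3,2,3,2,4,3,0,1,3,4,3,1],[2,1,0,2,1,4,1,3,2,1,3,2,0,3,4,1],[1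,0,1,3,4,2,4,2,3,2,4,2,4],[0,2,3,0,4,2,3,1,3,4,1,2,4,3],[0,4,3,4,2,3,0,4,3,0,2,1,3,4,3,2],[2,0,1,0,4,3,2,4,1,3,0,1,3],[2,3,2,4,2,4,1,0,4,3,0,2,3,1],[4,3,0,2,1,3,0,2,3,4,1,2,3],[1,0,2,4,1,2,0,1,3,0,1,0,1,0,3],[0,1,4,2,0],[0,1,3,4,3,1],[2,1,4,2,4,2,4,1,4],[0,2,0,4,1,2,1,4,3,2,1,3,0],[1,3,0,2,0,4,1,3,1,4,3,2,3,1,0],[4,3,1,4,2,0,3,1,0,1,0,1,0,2],[0,2,0,4,1,0,4,2,3,4,1,3,2,3],[4,3,2,0,3,1,2,4,3,1,4,1,3,1,0],[0,2,3,0,4,2,3,1,2,3,4,2,3,1],[2,3,0,1,4,1,0,3,2,0,2,0,4,1,0],[2,0,1,0,1,0,1,0,2,1,4,1,3,2],[2,4,2,1,3,1,2,4,1,0,4,3,2,4,1],[0,1,0,2,0,4,1,2,0,4,1,3,0,4,3,1,0],[4,1,3,1,4,3,2,1,2,0,4,1,0],[0,1,0,4,3,2,4,3,1,4,1,3,1,0],[3,1,4,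2,3,4,1,0,2,0,1,3,4,3,1],[3,0,1,0,1,4,3,0,2,4,1,3],[4,1,2,1,3,4,3,1,0,1,0,1,0,3],[1,0,4,2,3,4,1,0],[2,4,2,1,3,1,2,0,4],[0,1,4,2,0,1,3,2,0,3,4,1],[2,3,2,4,2,4,2,1,0,3,0,1,4,3,2],[3,1,0,1,3,4,2,0,3,4,3],[0,1,4,2,0,4,3,0,2,1,3,4,3,2],[3,1,4,2,3,4,1,0,2,0,1,4,2,0],[4,1,3,1,4,3,2,4,2,3,2,0,4,3,4],[4,2,1,0,2,1,3,0,1,2,3,2,4,2,4],[4,1,3,1,4,3,2,1,3,2,3,1,2,3,4],[1,0,2,4,1,2,0,4,1,0,3,2,3,1,4],[2,3,1,0,4,1,2,0,1,2],[2,1,0,1,3,4,2,4,2,0,1,4,2,0],[3,0,1,0,1,0,3,2,1,0,1,3,4,2,4,2],[1,0,2,4,1,2,0,1,2,1,0,2,0,1,3,2],[2,3,2,3,1,4,3,0,2,3,1],[3,1,0,3,1,0,1,0,1,0,1,0,3],[1,0,2,4,1,2,3,2,0,1,3,2,1],[2,3,1,0,2,1,3,4,2,4,2],[1,3,2,0,3,4,3,0,4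,3,1,0],[0,4,3,4,2,3,2,1,4,3,2,1,3,0],[3,1,4,3,2,4,2,0,4,3,2,4,1],[0,1,4,2,3,2,3,1,2,4,2,3,0],[0,1,4,2,0,4,2,0,1,0,3,4,3,4],[0,1,4,2,0,3,2,4,1,3,4,2,4,3],[1,2,0,3,4,1,2,0,3,0,4],[1,0,1,3,2,4,2,3,4,1,2,3],[2,1,0,3,0,4,1,2,3,4,1,2,3],[0,4,2,0,4,2,3,2,1,2,4,3,0,1,3,4],[0,1,4,2,0,1,3,0,4,3,1,0],[1,0,2,1,0,4,2,1,3,2,3,2],[1,3,2,0,3,4,3,0,4,3,4,2,0],[0,1,3,4,3,1,3,1,0,1,3,0,1,3],[0,1,4,2,1,0,2,3,1,2,0,3],[0,1,0,4,3,2,4,2,3,1,0,2,3,0,1],[2,3,2,3,1,2,3,2,3,2,4,3],[0,1,0,2,3,1,2,0,3,2,3,2,4,2,4],[1,0,1,3,2,3,1,0,2,1,4,1,3,2],[2,3,2,4,2,0,3,1,4,2,0,3,1,2],[2,3,1,0,4,1,2,0,1,2,0,1,4,2,0],[4,2,1,4,2,0,1,2,0,4,1,0],[1,0,1,3,2,0,1,0,1,0,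3,2],[0,1,4,2,0,3,2,0,1,2,0,1,4,2,3,0],[3,1,2,1,3,2,0,4,3,2,0,4,1,3],[0,3,2,0,4,3,4,0,1,3,4,3,1],[2,3,0,1,0,4,1,0,3,2,1,3,1,4,1,3,1,0],[2,1,3,1,2,3,0,1,2,0,4,2,3,2],[4,3,4,1,2,3,1,2,3,0,4,3,1,0],[2,3,4,1,4,3,0,1,3,2,4,2,4],[2,1,0,1,3,4,2,4,2],[2,3,2,4,2,4,0,2,3,0,3,0,2,4,1],[4,3,0,2,1,3,4,2,4,2,4],[4,2,1,3,1,2,1,4,3,2,3,1,0],[3,4,1,4,3,2,0,1,2,0,1,4,2,0],[4,1,0,3,4,3,0,2,3,4,2,3,0],[1,0,1,3,2,3,2,0,2,0,4,1,0],[0,1,2,0,4,2,0,4,3,0,4,3],[2,3,2,4,0,3,0,4,3,0,1,0,4],[0,1,3,4,1,4,1,3,1,0],[3,0,2,1,3,2,0,4,2,0],[4,2,1,4,2,0,1,0,2,3,2,4,2,4]]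

noncomputable def invA5 : List (List ℕ) := [[3,0,1,2,3,1,2,3,2,0,4,1,0],[3,0,1,2,3,1,2,3,4,3,4,2,3,0],[1,2,1,4,2,4,3,0,3,4,3,4,3,2],[3,1,0,4,2,0,3,4,3,0,1,4,2,0],[0,1,4,2,0,2,3,2,3,1,0,1],[1,0,2,4,1,2,0,4,2,3,4,2,3,1],[1,0,1,3,2,3,2,0,1,3,4,3,1],[1,3,0,4,3,1,0],[1,3,1,4,1,3,4,2,3,2,0,4,3,4],[2,4,3,1,4,2,0,1,4,1,3,4,2,0],[3,0,1,0,1,0,3,4,2,3,4,1,3,2,3],[0,3,4,1,4,1,3,0,2,0,1,4,2,0],[2,3,0,1,0,4,1,0,3,0,1,0,1,0,2],[0,3,2,1,3,2,1,0,3,0,1,4,2,0],[0,3,2,0,4,2,1,3,2,3,0],[1,2,1,4,2,4,3,2,1,0,2,0,4,1,0],[0,1,4,2,0,3,1,0,3,1,0,1,3],[2,3,1,0,2,0,1,3,0,1,4,1,0,3,2],[0,1,0,4,3,2,4,1],[4,2,1,3,4,2,0,4,3,2,0,4,1,3],[4,2,1,3,4,2,1,0,3,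1,0,2,0,1,2],[0,1,0,2,3,1,2,0,1,0,3,1,0,1,3],[4,3,1,4,2,0,3,1,3,2,4,2,4],[0,3,4,1,4,1,3,0,3,2,3,1,0,1],[1,3,1,4,1,3,1,3,2,3,1,2,3,4],[4,1,3,1,4,3,2,4,2,0],[1,3,0,4,3,1,0,1,4,2,4,2,1,4,1,4],[3,0,1,0,1,0,3,0,4,3,4,2,3,0],[2,1,0,3,0,1,4,2,3,1,0,1],[1,0,1,3,2,3,2,1,2,3,1,0,2,3,0,1],[3,4,2,3,2,4,1,2,4],[3,1,0,3,1,0,1,3,4,3,4,1,2,3,1,2,1],[1,0,1,3,4,2,4],[4,3,2,0,3,1,2,4,1,2,3,2,4,2,4],[1,0,4,2,0,3,0,3,2,1,4,2,0],[3,0,2,1,3,2,0,1,3,2,3,1,2,3,4],[1,3,2,0,4,3,2,0,4,1,0,1,4,2,0],[1,2,0,3,4,3,0,2,3,4,1,2,3],[1,2,1,3,2,1,0,4,3,0,4],[1,0,4,2,1,3,0,2,3,4,1,4,2,0],[3,0,4,2,1,0,4,3,0,4,1,0,1,4,2,0],[0,1,0,4,3,2,4,0,3,2,0,1,3,2,1],[0,2,0,4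,1,0,1,0,4,3,0,2,3,1],[1,2,0,3,4,3,4,3,0,1,0,1,0,2],[4,2,1,4,2,0,1,4,3,4,2,3,0],[2,3,0,4,3,1,2,0,3,4,1,3,4,3,1],[4,1,0,3,4,3,0,2,4,0,1,4,2,0],[3,1,4,2,3,4,1,0,3,2,3,1,0,1],[0,2,0,4,1,4,3,1,0,2,1,0,2,3],[0,2,0,4,1,2,3,0,3,0,2,4,1],[4,1,2,1,3,4,3,4,2,3,4,1,0,2],[0,4,2,0,4,2,0,1,0,1,0,3,2],[2,1,0,3,0,1,0,2,3,4,1,2,3],[1,3,2,0,3,4,1,0,4,3,4,2,3,0],[3,1,4,2,3,4,1,0,3,2,4,2,4],[2,3,2,4,2,4,2,0,1,0,1,0,2],[1,3,1,2,3,0,1,4,3,2,3,1,0,1],[0,1,3,4,3,0,1,3,4,2,4],[3,0,1,0,1,4,2,1,0,4,3,0,4,1],[2,3,2,3,1,0,1,3,1,0,1,3,0,1,3],[0,2,0,4,3,4,3,1,2,3,2,4,2,4],[0,1,4,2,0,2,3,1,0,2,0,1,2],[1,4,1,0,3,2,3,1,4,0,1,4,2,0],[3,1,0,3,1,0,1,3,0,4,3,4,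2,3,0],[0,3,2,3,1,2,3,2,0,4,2,3,2],[0,1,3,1,0,4,1,3,1,0,2,0,4,1,0],[3,0,4,2,3,2,3,2,1,3,2,3,2],[3,0,2,1,3,2,0,1,2,0,4,1,0],[2,1,0,2,1,4,1,2,3,1,0,1],[4,2,3,4,1,3,2,3,0,2,0,4,1,0],[2,3,4,2,3,4,1,2,3,2,3,2,3,1,0,1],[0,2,3,0,3,0,2,4,1],[0,1,0,2,0,4,1,3,4,1,3,2,3],[0,1,2,3,0,4,1,3,1,0,3,4,2,3,0],[2,1,0,3,0,1,3,0,4,3,0,2,1],[2,0,1,0,1,0,2,0,1,3,1,0,4,1,3,1],[1,3,2,0,4,3,2,1,0,3,2,3,1,4],[3,2,4,1,3,4,2,4,3],[4,1,3,4,1,4,2,4,0,1,3,0,4,3,1,0],[0,1,4,2,0,4,2,3,4,1,3,2,3],[3,0,1,0,1,0,1,4,2,3,4,1,0,2],[1,0,4,3,0,2,3,1,0,2,0,4,1,0],[4,1,3,4,1,4,2,4,3,2,0,4,3,4],[1,0,1,3,2,0,4,3,1,2,0,3,0,4],[0,1,3,1,0,4,1,3,0,1,3,2,3,2],[2,3,1,0,2,0,1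,3,2,4,2,4],[3,1,0,1,3,0,1,3,1,3,2,0,3,4,1],[2,3,0,1,0,4,1,0,3,2],[0,1,4,2,0,2,1,0,2,1,4,1,3,2],[2,3,2,4,2,4,2,3,2,4,2,4],[4,2,3,4,1,3,2,3,0,1,3,4,3,1],[1,0,2,4,1,2,0,1,2,3,2,4,2,4],[0,1,3,4,2,0,3,4,1],[1,2,4,3,0,1,3,4],[0,1,3,4,3,1,0,2,0,4,1,0],[0,1,3,4,3,2,3,2,3,2,3,2,1],[2,3,0,4,1,0,3,0,1,3,2,3,1,0,1],[0,1,0,4,3,2,4,1,0,4,3,4,2,3,0],[2,3,2,3,1,0,1,0,1,4,2,0],[2,3,2,3,1,0,1,0,1,3,4,3,1],[0,1,3,4,3,1,4,2,1,3,1,2,4,0,2],[0,1,4,2,0,1,2,0,3,4,3,4,3,2],[0,1,0,4,3,2,4,1,4,2,3,4,1,3,2,3],[1,3,2,0,3,4,1,3,4,1,4,3,2,0,1,2],[3,0,4,2,1,0,4,3,0,2,3,4,1,0],[0,3,2,1,3,2,1,0,3],[0,1,4,2,4,2,0,4,2,3,2],[2,3,2,3,1,4,2,0,3,0,3,2,0],[1,3,1,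4,1,3,1,0,2,3,2,3,1,0,1],[0,1,3,4,3,1,0,1,0,2,3,1,2,0,3],[4,2,0,1,0,3,4,3,4,0,2,0,4,1,0],[1,0,4,2,0,3,4,2,3,1,0,4,1],[3,0,4,3,0,2,4,1,3],[1,3,0,4,3,4,2,0],[2,3,2,4,2,3,2,1,3,0,4,3,4],[2,3,2,3,1,4,2,3,4,1,0],[0,3,2,3,1,2,3,4,2,0,1,0,1,0,2],[1,3,1,4,1,3,1,4,3,4,2,3,0],[0,3,2,0,4,3,0,1,0,3,0,2,3,0,2],[1,4,1,3,2,4,3,2,0,1,3,2,0,3,4,1],[1,0,4,2,1,3,0,2,3,0,4],[4,1,3,4,1,4,2,4,0,2,3,2,4,2,4],[2,4,1,4,3,2,3,1,4,3,4,2,3,0],[0,2,0,4,3,4,3,1,0,2,0,4,1,0],[1,4,2,3,4,2,0,2,0,4,1,3,0,4,2],[1,4,2,3,4,2,3,2,4,3,0,1,3,4],[0,3,2,1,3,2,1,2,1,3,2,0,1,0],[0,4,2,0,3,0,4,3,0,1,4,1,4,2,0]]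

noncomputable def invA6 : List (List ℕ) := [[2,0,3,1,0,4,1,0,4,2,0,4,3,4],[4,1,0,3,4,3,0,2,4,2,3,2,3,1,0,1],[0,3,2,3,1,2,3,4,0,3,2,0,4,3,4],[0,1,3,4,3,1,2,1,0,1,3,4,2,4,2],[3,4,2,1,4,0,3,1,4],[3,2,3,1,0,4,3,2,0,4],[4,2,0,1,0,3,4,3,4,3,0,1,0,1,0,3],[3,2,0,1,2,0,1,3,4],[0,3,1,2,3,0,4,1,0,4,1,0],[1,4,2,4,2,1,4,1,4,2,3,2,4,2,4],[2,3,4,2,3,4,1,2,3],[4,1,0,3,4,3,4,2,3,2],[3,1,3,0,4,3,1,2,1,4,1,4,2,0],[2,4,3,1,4,2,0,3,1,0,1,4,2,0],[2,0,1,0,1,0,2,3,4,1,4,3,2,0,1,2],[2,3,0,4,3,0,4,3,0,2,1],[1,2,4,3,0,1,4,2,3,2,0,4,1,0],[2,0,1,0,1,0,2,0,1,3,4,3,1],[0,4,3,4,1,3,2,1,0,3],[4,1,0,3,0,2,3,1,0,1,0,2],[4,1,3,1,4,3,2,1,3,2,0,4,3,4],[0,3,2,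0,4,3,4,3,0,1,0,1,0,3],[4,3,0,2,1,0,4,3,0,2,1],[2,1,0,2,1,4,1,3,2],[0,1,3,1,0,4,1,3,1,2,3,2,4,2,4],[0,4,1,0,3,2,1,3,4,2,4,2,4,1,4],[2,3,0,1,0,1,0,3,2],[0,1,3,4,3,0,4,3,0,2,3,1],[3,4,1,4,3,2,1,3,4,2,4,2],[0,3,2,3,1,2,3,4,1,2,4,3,0,1,3,4],[1,2,3,1,0,2,3,0,4,2,3,4,2,3,1],[1,4,2,3,4,2,3,1,0,1,4,2,0],[4,2,0,4,1,0,4,3,1,0,4],[0,4,3,4,2,3,2,0,4,3,4,3,1],[0,1,3,4,0,2,0,4,1,3,0,4,2],[4,2,1,3,1,2,4,0,2,3,0,1,0,1,0,3],[3,1,0,1,3,0,1,3,0,2,0,4,1,0],[2,3,0,4,1,0,3,0,1,2,1,3,2,0,3,4,1],[2,1,0,2,0,1,3,2,0,1,3,4,3,1],[1,0,3,2,0,1,3,2,1],[1,0,4,2,1,3,0,2,3,0,3,4,2,3,0],[1,0,3,1,2,0,1,2,4,2,0,4,1,0],[1,2,1,4,2,4,3,2,0,4,3,0,2,3,1],[2,3,2,4,2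,4,0,1,3,4,3,1],[4,2,1,4,2,0,1,0,1,4,2,3,4,2,3,1],[3,4,2,1,4,0,3,1,3,2,1,3,2,3,0],[2,0,1,0,1,0,2,3,0,1,0,1,0,3],[0,1,2,0,4,2,3,2,3,4,1,0,2],[0,1,2,3,0,4,1,3,1,0,4],[0,3,2,0,4,3,4,0,1,4,2,0],[0,1,0,4,3,2,4,1,0,1,3,4,3,1],[0,2,0,4,1,0,1,3,0,4,3,1,0],[1,2,3,1,0,2,3,0,1],[0,1,4,2,0,2,3,2,4,2,4],[4,2,3,4,1,3,2,3],[2,3,4,3,2,4,2,1,4,0,1,4,2,0],[0,4,3,4,2,3,0,2,4,2,1,3,1,2,0,4],[0,1,3,4,3,1,2,4,3,1,4,2,0,3,1],[3,4,3,4,2,4,2,0,2,3,1,2,0,3],[2,1,0,2,1,4,1,3,4,2,1,3,1,2,0,4],[1,3,2,0,3,2,3,4,1,0],[3,0,4,2,0,4,3,1,0,4,2,3],[3,4,2,1,4,0,2,3,0,1,0,4,1],[1,4,2,3,4,0,3,4,1],[1,4,2,3,4,2,3,1,0,2,0,4,1,0],[0,1,4,2,0,1,0,3,2,0,1,3,2,1],[2,3,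2,4,2,4,2,3,1,0,2,0,1,2],[1,3,1,2,3,0,1,4,2],[0,1,0,4,3,2,4,1,3,0,1,0,1,0,3],[1,4,3,4,1,2,4,1,0,1,3,0,1,3],[1,3,0,2,0,4,1,3,4,1,0,1,0,2],[1,3,2,0,4,3,2,0,4,1,0,1,3,4,3,1],[4,3,4,1,2,3,1,2,0,1,3,2,3,2],[3,0,4,3,0,2,4,1,0,2,1,3,2,0,1,0],[0,2,0,4,1,0,3,1,0,1,3,0,1,3],[3,0,1,2,3,1,2,3,0,2,3,2,3,1,0,1],[2,1,0,3,0,1,4,3,2,0,1,4,2,0],[0,1,3,1,0,4,1,3,1],[4,2,3,4,1,3,2,0,1,0,1,0,3],[0,4,3,4,2,3,0,3,0,1,0,1,0,3],[1,3,0,4,3,1,2,0,4,1,0],[1,2,0,3,4,3,4,2,4,2,4],[1,3,0,4,3,0,2,0,4,1,2,0,4],[2,1,4,2,4,2,4,1,3,2,1,3,2,3,0],[2,0,4,1,0,3,2,1,3,1,0,1,4,2,0],[0,4,3,0,4,3,0,1,0,2,4,1,4,2,0],[2,4,3,1,4,2,0,3,1],[1,3,0,4,3,1,4,2,0,4,2,3,2],[3,0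,4,2,1,0,4,3,0,4,1],[4,2,3,4,1,3,2,3,2,3,2,4,2,4],[3,0,4,3,0,2,4,0,3,1,0,1,3],[1,3,2,0,3,4,1,2,3,2,4,2,4],[2,4,2,1,3,1,2,4,1,3,4,3,1],[3,2,4,1,3,4,2,4,1,0,3,1,0,1,3],[3,1,3,0,4,3,1,2,1,0,4],[4,2,1,3,1,2,4,0,2],[0,1,0,4,3,2,3,0,2,3,1],[2,3,2,4,2,0,3,0,2,1,3,4,3,2],[0,2,0,4,1,4,3,4,2,3,0],[4,3,0,2,1,3,4,3,2,1,3,1,4,1,3,1,0],[4,2,1,3,4,3,1,2,1,3],[2,4,1,4,3,2,4,3,4,3,4,1,2,4,3],[3,4,1,4,3,1,4,1,3,2],[2,4,3,0,2,1,3,4,3],[0,4,3,1,0,2,1,0,2,3],[3,0,1,0,1,0,2,4,1,3,4,2,4,3],[3,0,2,1,3,2,0,3,4,3,1],[2,3,0,1,4,1,0,3,2,0,3,2,0,4,3,4],[1,2,1,4,2,4,3,2,1],[2,4,2,1,3,1,2,0,4,3,0,1,0,1,0,3],[2,3,2,4,2,0,2,1,0,2,1,3,0,1],[2,3,4,3,2,4,2,0,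3,2,1,3,1,2],[2,3,4,1,4,3,0,1,2],[4,1,2,1,3,4,3,1,0,2,1,3,2,0,1,0],[1,3,2,0,3,0,2,3,4,2,3,1],[0,1,0,2,0,4,3,4,2,1,0,2],[3,0,4,2,3,2,3,4,1,2,0,1],[0,2,0,4,3,2,3,0,4,1,0,4,2],[1,4,1,0,3,2,4,1,2,0,4,3],[0,3,4,1,4,1,2,0,3,0,1,0,4],[3,2,0,1,2,0,1,4,2,3,0],[0,1,2,0,4,2,3,0,4,1,3],[2,4,2,1,3,1,2,0,3,4,2,3,0],[0,1,3,4,3,1,2,0,1,0,1,0,2],[1,4,1,3,2,4,3,2,1,3,4,3,1],[4,3,1,4,2,0,3,1,2,0,1,3,4,3,1],[0,1,3,1,0,4,1,2,0,3,4,1],[0,1,3,4,3,2,0,3,4,3,4,3,2]]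

noncomputable def invA7 : List (List ℕ) := [[1,0,4,3,0,2,3,4,3,4,1,2,4,3],[1,3,2,0,4,3,2,0,4,1,2,3,2,4,2,4],[4,2,1,0,2,1,3,0,4,3,4,1,2,4,3],[4,1,0,3,0,2,1,0,4,1,0,4,3,0],[2,3,0,1,4,1,0,4,3,2,4,2,1,4],[0,4,3,2,1,3,2,3,1,4,2,0],[2,3,2,3,1,0,3,0,4,3,4,2,0],[2,0,1,2,0,4,3,1,2,0,4],[2,3,2,4,2,4,1,0,1,3,2,3,2],[4,2,1,3,4,2,1,0,3,4,2,3,4,1,2,3],[2,4,1,4,3,2,4,3,1,0,1,4,2,0],[4,1,3,1,4,3,2,3,4,3,1],[4,2,1,3,4,2,0,1,0,2],[0,1,4,2,0,1,0,4,2,3,4,1,0],[2,3,1,0,2,0,1,3,2,3,1,0,1],[1,3,0,4,3,1,0,1,3,0,4,3,1,0],[2,0,3,1,0,4,1,0,4,3,1,3,4,3,1],[3,2,1,0,4,3,2,0,4,2,4,2,4],[4,3,4,1,2,3,1,2,1,0,3,2,0,4,3,4],[4,2,1,3,4,2,1,0,2],[0,3,4,1,4,1,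3,0,2,0,1,3,4,3,1],[1,3,2,0,3,4,2,1,4,2,4,3,2,1],[1,4,3,4,1,2,3,0,2,4,1,3],[1,0,4,2,3,4,1,3,2,0,4,3,4],[0,4,3,4,2,3,1,4,2,0],[4,2,0,1,0,3,4,3,4],[0,4,2,0,4,2,3,2,0,4,3,4,2,3,0],[0,1,3,4,3,1,4,3,4,1,2,3,1,2,1],[0,1,0,2,0,4,1,2,0,4],[0,1,4,2,0,2,0,1,0,1,0,2],[2,0,1,4,3,2,0,4,1,3,0,1,4,2,0],[1,4,2,3,4,2,1,4,1,3,1,0],[2,3,0,1,4,1,0,3,2],[1,2,4,3,0,1,2,1,3,2,3,0],[4,2,1,4,2,0,3,1,0,4,1,3,1],[2,1,3,1,2,3,0,1,4,0,1,3,4,3,1],[2,3,0,1,0,1,0,2,4,2,4],[0,1,4,2,4,3,4,2,3,1,4,2,0],[1,2,4,3,0,1,3,4,2,3,2,3,1,0,1],[3,4,2,3,2,4,1,2,3,4,2,3,0],[1,3,1,4,1,3,1,0,3,0,1,0,1,0,3],[4,1,3,1,4,3,2,1,0,1,0,1,3,2,3,2],[2,3,0,4,1,0,3,0,1,3,2,4,2,4],[0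,1,3,4,1,2,3,0,1,4,2],[2,3,2,4,2,4,0,3,2,3,1,2,3,4],[1,4,1,0,3,2,3,1,4],[2,0,4,1,0,3,2,1,3,1],[3,4,3,4,2,4,2,1,0,2,3,2,4,2,4],[2,0,1,2,3,1,2,4,3,2,4,2,1,0],[1,3,1,4,1,2,3,0,4,1,0,4,2],[0,1,4,2,0,2,4,3,0,2,1,3,4,3],[1,2,1,4,2,4,3,2,1,2,3,2,4,2,4],[0,1,3,4,3,1,0,1,4,2,0],[2,3,2,3,1,0,1,0,4,2,0,4,2,3,2],[3,1,0,4,2,0,3,4,0,1,0,1,0,3],[2,0,1,0,1,0,2,0,3,2,3,1,2,3,4],[1,2,4,3,0,1,3,4,1,3,2,0,3,4,1],[1,2,4,3,0,1,3,4,1,0,1,3,2,3,2],[0,4,3,4,2,3,1,0,2,3,1,2,0,3],[1,3,1,4,1,4,3,1],[3,0,1,0,1,0,3,4,2,1,4,2,0,1,0],[3,2,3,1,0,4,3,2,4,1,4,2,0],[0,1,3,4,3,1,3,1,4,3,2,4,2,1,0],[2,3,2,4,2,4,2,3,2,3,1,0,1],[3,2,4,1,3,4,2,4,0,1,0,1,0,3],[4,3,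0,2,1,3,4,3,0,1,0,1,0,2],[0,1,4,2,0,2,3,4,3,2,4,2,1,4],[0,1,3,4,3,1,2,1,0,2,0,1,3,2],[1,3,0,4,3,0,2,3,1,2,0,3],[2,3,2,4,2,4,1,4,3,4,1,2,4,3],[1,2,4,3,0,1,3,4,0,1,0,4,3,2,4,1],[2,1,3,1,2,3,0,1,4,0,2,0,4,1,0],[1,3,0,4,3,1,2,1,4,3,2,1,3,0],[0,3,2,0,4,3,4,0,2,0,4,1,0],[1,3,1,2,3,0,1,4,2,3,0,1,0,1,0,3],[0,1,3,4,3,1,2,3,2,3,1,0,1],[2,1,0,3,0,1,4,3,0,1,0,1,0,2],[1,0,4,2,3,4,0,2,3,1,2,0,3],[4,1,3,4,1,4,2,4,3,2,3,1,2,3,4],[3,1,2,1,3,2,0,1,0,2],[1,3,1,4,1,3,1,2,0,4,1,0],[1,3,1,4,1,3,1,0,1,4,2,3,4,2,3,1],[0,1,4,2,0,4,2,1,3,1,2,4,0,2],[3,4,3,4,2,4,2,4,2,0],[2,1,3,1,2,3,0,1,3,4,2,3,0],[0,1,4,2,3,2,1,3,2,0,1,0,3],[3,1,2,1,3,2,1,0,2],[2,4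,2,1,3,1,3,4,1,3,2,3],[3,4,2,1,4,0,3,1,3,4,2,3,0],[4,1,3,1,4,3,2,1,0],[3,4,1,4,3,2,0,1,3,1,0,2,0,1,2],[1,0,2,3,2,3,2,4,3],[1,3,0,4,3,1,0,3,0,1,0,1,0,3],[2,3,0,1,0,1,0,3,2,1,3,0,4,3,1,0],[0,3,2,0,4,1,0,2,1,0,2,3],[1,4,3,4,1,2,4,3,0,1,3,4,3,1],[0,1,4,2,0,1,0,4,3,0,2,3,1],[3,2,1,0,4,3,2,0,1,0,3,0,1,2],[2,3,1,0,2,0,1,2,1,0,1,3,2,3,2],[1,0,2,4,1,2,4,2,3,4,1,0],[0,4,2,0,4,2,4,2,3,4,1,2,3],[4,1,3,1,4,3,2,0,4,3,2,4,1],[0,1,0,2,3,1,2,4,3,0,2,4,1,3],[0,1,4,2,0,1,2,3,1,0,2,3,0,1],[3,1,2,1,3,2,1,0,2,0,1,3,4,3,1],[1,3,2,0,3,4,1,0,1,3,4,3,1],[2,4,3,1,4,2,0,3,0,1,3,2,3,2],[4,2,0,4,1,0,4,3,1,4,1,3,4,3,1],[0,2,0,4,1,0,4,1,2,1,3,4,3,1,3],[2,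3,2,4,2,1,0,3,2,1,3,1,2],[1,2,4,3,0,1,3,0,1,2,1,3,4,3,1,3],[3,0,2,1,3,2,4,3,2,4,1],[4,2,1,3,1,2,4,0,3,2,4,2,4],[2,0,1,0,1,0,3,2,4,2,4],[1,4,1,0,3,2,3,1,3,4,2,3,0],[0,4,1,3,2,3,0,1,0,4,1],[0,1,4,2,0,2,0,1,2,3,1,2,1,3],[1,0,3,2,0,1,3,0,3,4,3,4,3,2],[4,2,1,4,2,0,1,0],[1,2,0,3,4,3,1,0,3,0,1,2],[3,2,3,1,0,4,3,1,3,1,2,4,0,2],[1,2,0,3,4,3,4,2,3,1,0,1],[0,2,1,4,3,2,1,3,2,0,4,1,0],[0,1,0,2,0,4,1,2,0,3,4,2,3,0],[1,0,4,2,0,3,0,3,2,0],[1,0,4,3,0,2,3,0,4,2,3,4,1,0],[4,1,3,4,1,4,2,1,0,3,4,3,0,2,4],[0,4,2,0,4,2,3,2]]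

noncomputable def invB : List (List ℕ) := [[],[4,3,0,2,1,3,0,1,4,3,0,1,2],[3,1,4,2,3,4,1,0,2,4,2,3,4,1,3,2,3],[1,4,2,3,4,2,3,1,2,1,3,1,2,3,0,1,4],[1,3,1,4,1,3,1,2,0,4,1,3,2,0,4,3,4],[2,4,3,1,4,2,0,3,1,2,3,0,1,4,1,0,3,2],[1,2,1,4,2,4,3,2,1,4,1,3,1,4,3,2,1,0],[2,3,2,4,2,4,0,1,4,2,0,3,1,0,1,3,0,1,3],[0,1,4,2,4,3,1,0,2,1,0,2,3,0,1,3,4,3,1],[0,4,1,0,3,2,1,3,1,2,1,3,2,0,4,3,2,0,4,1],[4,2,3,4,1,3,2,3,0,1,3,4,3,1,0,1,3,4,3,1],[0,1,3,4,3,0,1,3,2,3,2,3,4,3,4,2,4,2,1,0],[2,3,0,1,0,4,1,0,3,2,1,3,0,2,0,4,1,3,0,4,2],[1,2,0,3,4,3,4,3,2,0,2,0,4,1,0,2,3,2,4,2,4],[2,3,2,3,1,0,1,0,1,4,2,0,3,1,0,4,2,0,3,4,3],[4,1,0,3,0,2,3,0,2,0,1,3,4,3,0,4,2,3,4,1,0],[2,3,2,4,2,0,2,3,4,1,3,2,3,0,4,2,0,4,2,3,2],[3,0,4,3,0,2,4,1,3,0,2,0,4,1,0,1,0,1,3,2,3,2],[1,3,0,4,3,1,0,3,2,0,1,2,0,1,3,4,0,2,0,4,1,0],[4,1,0,3,4,3,0,2,4,3,1,2,1,3,2,1,0,2,0,1,4,2,0]]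

end Cfsg.Agent.Helper56.Tits
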