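import Cfsg.Agent.Helper56.Ru.Simple
import Cfsg.Agent.Helper56.Tits.InvData

/-!
# Kernel checks for the point stabiliser of `²F₄(2)` on 4060 points (helper56)
-/

set_option autoImplicit false

namespace Cfsg.Agent.Helper56.Tits

open Cfsg.Agent.Helper28 Cfsg.Agent.Helper56.J3 Cfsg.Agent.Helper56.Ru

/-- the tables of the five letters: the four generators of the Tits group, and `fz` -/
noncomputable def QT (c x : ℕ) : ℕ := cond (Nat.blt c 4) (PT c x) (pk 12 4095 ft x)

/-- the parity of a word: the number of letters which are at least four -/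
noncomputable def wpar (l : List ℕ) : Bool :=
  List.rec (motive := fun _ => Bool) false (fun c _ ih => Bool.xor (Nat.ble 4 c) ih) l

/-- the check at a point: `fz * fz = gen 0`, and `fz` preserves the orbit of length 1755 -/
noncomputable def iPt (x : ℕ) : Bool :=
  and (Nat.beq (pk 12 4095 ft (pk 12 4095 ft x)) (PT 0 x))
    (cond (Nat.ble 2305 x) (Nat.ble 2305 (pk 12 4095 ft x)) (Nat.blt (pk 12 4095 ft x) 2305))

theorem ipt_0 : ptChunk iPt 4060 1024 0 = true := by decide +kernel
theorem ipt_1 : ptChunk iPt 4060 1024 1 = true := by decide +kernel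
theorem ipt_2 : ptChunk iPt 4060 1024 2 = true := by decide +kernel
theorem ipt_3 : ptChunk iPt 4060 1024 3 = true := by decide +kernel

theorem ipt_all : ∀ i, i < 4060 → iPt i = true :=
  pts_of_chunks _ 4060 1024 4 (by decide) (by decide)
    (allLt_succ _ 3 (allLt_succ _ 2 (allLt_succ _ 1 (allLt_succ _ 0 (allLt_zero _) ipt_0) ipt_1) ipt_2) ipt_3)

/-- the transversal: the `i`-th word fixes `2305` and maps `2306` to `2306 + k + i` -/
noncomputable def chkA (l : List (List ℕ)) : ℕ → Bool :=
  List.rec (motive := fun _ => ℕ → Bool) (fun _ => true)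
    (fun a _ ih k => and (Nat.beq (walkA QT a 2305) 2305)
      (and (Nat.beq (walkA QT a 2306) (Nat.add 2306 k)) (ih (Nat.succ k)))) l

/-- the 1024 words of the transversal -/
noncomputable def invA : List (List ℕ) :=
  invA0 ++ (invA1 ++ (invA2 ++ (invA3 ++ (invA4 ++ (invA5 ++ (invA6 ++ invA7))))))

theorem chkA_all : chkA invA 0 = true := by decide +kernel

theorem invA_length : invA.length = 1024 := by decide +kernel

theorem invB_length : invB.length = 20 := by decide +kernel

/-- the words of `invB` fix the points `2305` and `2306` -/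
noncomputable def chkB (l : List (List ℕ)) : Bool :=
  listAll l (fun b => and (Nat.beq (walkA QT b 2305) 2305) (Nat.beq (walkA QT b 2306) 2306))

theorem chkB_all : chkB invB = true := by decide +kernel

/-- the words of `invB` map the point `1` to different points -/
noncomputable def chkB2 (l : List (List ℕ)) : Bool :=
  allBelow 20 (fun j => allBelow 20 (fun j' => or (Nat.beq j j')
    (not (Nat.beq (walkA QT (nthL l j) 1) (walkA QT (nthL l j') 1)))))

theorem chkB2_all : chkB2 invB = true := by decide +kernel

/-- the square of the product of two words of odd total parity moves `2306` or `1` -/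
noncomputable def sqOK (a b : List ℕ) : Bool :=
  or (not (Bool.xor (wpar a) (wpar b)))
    (or (not (Nat.beq (walkA QT a (walkA QT b (walkA QT a (walkA QT b 2306)))) 2306))
      (not (Nat.beq (walkA QT a (walkA QT b (walkA QT a (walkA QT b 1)))) 1)))

end Cfsg.Agent.Helper56.Tits
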