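import Cfsg.Agent.Helper56.Tits.InvDef

/-!
# Kernel checks: no involutions in the odd coset of the point stabiliser (helper56), part 0
-/

set_option autoImplicit false

namespace Cfsg.Agent.Helper56.Tits

open Cfsg.Agent.Helper28 Cfsg.Agent.Helper56.J3 Cfsg.Agent.Helper56.Ru

theorem sq_0 : listAll invA0 (fun a => listAll invB (fun b => sqOK a b)) = true := by decide +kernel

theorem sq_1 : listAll invA1 (fun a => listAll invB (fun b => sqOK a b)) = true := by decide +kernel

theorem sq_2 : listAll invA2 (fun a => listAll invB (fun b => sqOK a b)) = true := by decide +kernel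

theorem sq_3 : listAll invA3 (fun a => listAll invB (fun b => sqOK a b)) = true := by decide +kernel

end Cfsg.Agent.Helper56.Tits
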