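import Cfsg.Agent.Helper56.Tits.InvSq0
import Cfsg.Agent.Helper56.Tits.InvSq1
import Cfsg.Agent.Helper56.Tits.Outer

/-!
# No involutions of `²F₄(2)` outside the Tits group, on 4060 points (helper56)

`Q2 = Gk gen 4 ⊔ Zf ≤ Sym(4060)` is the group `²F₄(2)`, the stabiliser of a point in the Rudvalis
group.  An involution of `Q2` fixes a point of the orbit of length 1755, so it is conjugate into the
stabiliser of the point `2305`, whose 20480 elements are listed as products of two words; the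
squares of the 10240 elements outside the Tits group are not the identity.
-/

set_option autoImplicit false

namespace Cfsg.Agent.Helper56.Tits

open Cfsg.Agent.Helper28 Cfsg.Agent.Helper56.J3 Cfsg.Agent.Helper56.Ru

attribute [local irreducible] Cfsg.Agent.Helper56.Ru.gen Cfsg.Agent.Helper56.Ru.fz

theorem lt2306 : (2306 : ℕ) < 4060 := by decide

/-- the letters: the four generators of the Tits group, and `fz` -/
noncomputable def qg (c : ℕ) : Equiv.Perm (Fin 4060) := if c < 4 then gen c else fz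

theorem qg_apply (c : ℕ) (z : Fin 4060) : ((qg c z : Fin 4060) : ℕ) = QT c z.val := by
  unfold qg QT
  by_cases h : c < 4
  · rw [if_pos h, Nat.blt_eq.mpr h]
    exact gen_apply c (by omega) z
  · have hb : Nat.blt c 4 = false := by
      cases hb : Nat.blt c 4 with
      | false => rfl
      | true => exact absurd (Nat.blt_eq.mp hb) h
    rw [if_neg h, hb]
    exact fz_apply z

theorem qword_apply (l : List ℕ) (z : Fin 4060) :
    (((l.map qg).prod z : Fin 4060) : ℕ) = walkA QT l z.val := by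
  induction l with
  | nil => rfl
  | cons a l ih =>
    rw [List.map_cons, List.prod_cons, Equiv.Perm.mul_apply, qg_apply, ih, walkA_cons]

theorem ev_at (l : List ℕ) (x : ℕ) (hx : x < 4060) (y : ℕ) (hy : y < 4060)
    (h : walkA QT l x = y) : (l.map qg).prod (⟨x, hx⟩ : Fin 4060) = ⟨y, hy⟩ :=
  Fin.ext (by rw [qword_apply]; exact h)

/-! ### the element `fz` -/

theorem fz_sq : fz * fz = gen 0 := by
  apply Equiv.ext
  intro z
  apply Fin.ext
  rw [Equiv.Perm.mul_apply, fz_apply, fz_apply, gen_apply 0 c05]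
  have h := ipt_all z.val z.2
  unfold iPt at h
  simp only [Bool.and_eq_true] at h
  exact Nat.eq_of_beq_eq_true h.1

theorem fz_O1 (y : Fin 4060) : y ∈ O1 ↔ fz y ∈ O1 := by
  have h := ipt_all y.val y.2
  unfold iPt at h
  simp only [Bool.and_eq_true] at h
  have h2 := h.2
  have hlt : pk 12 4095 ft y.val < 4060 := by rw [← fz_apply]; exact (fz y).2
  show (2305 ≤ y.val ∧ y.val < 4060) ↔ (2305 ≤ (fz y).val ∧ (fz y).val < 4060)
  rw [fz_apply]
  by_cases hy : 2305 ≤ y.val
  · rw [Nat.ble_eq_true_of_le hy] at h2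
    have h3 : 2305 ≤ pk 12 4095 ft y.val := Nat.le_of_ble_eq_true h2
    exact ⟨fun _ => ⟨h3, hlt⟩, fun _ => ⟨hy, y.2⟩⟩
  · have hb : Nat.ble 2305 y.val = false := by
      cases hb : Nat.ble 2305 y.val with
      | false => rfl
      | true => exact absurd (Nat.le_of_ble_eq_true hb) hy
    rw [hb] at h2
    have h3 : pk 12 4095 ft y.val < 2305 := Nat.blt_eq.mp h2
    constructor
    · intro h'; exact absurd h'.1 hy
    · intro h'; omega

theorem cjW_letters4 (c : ℕ) (hc : c < 4) : ∀ k ∈ cjW.getD c [], k < 4 := by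
  interval_cases c <;> decide

theorem fz_conj (t : Equiv.Perm (Fin 4060)) (ht : t ∈ Gk gen 4) : fz * t * fz⁻¹ ∈ Gk gen 4 := by
  unfold Gk at ht
  induction ht using Subgroup.closure_induction with
  | mem y hy =>
    obtain ⟨c, hc, rfl⟩ := hy
    rw [cj_perm c hc, mul_inv_cancel_right]
    exact prod_mem_Gk gen 4 _ (cjW_letters4 c hc)
  | one => rw [mul_one, mul_inv_cancel]; exact Subgroup.one_mem _
  | mul a b _ _ ha hb =>
    have : fz * (a * b) * fz⁻¹ = (fz * a * fz⁻¹) * (fz * b * fz⁻¹) := by group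
    rw [this]; exact Subgroup.mul_mem _ ha hb
  | inv a _ ha =>
    have : fz * a⁻¹ * fz⁻¹ = (fz * a * fz⁻¹)⁻¹ := by group
    rw [this]; exact Subgroup.inv_mem _ ha

theorem fz_inv_eq : fz⁻¹ = fz * fz * fz := by
  apply inv_eq_of_mul_eq_one_right
  have h := fz_pow4
  rw [pow_succ, pow_succ, pow_succ, pow_one] at h
  rw [← mul_assoc, ← mul_assoc]
  exact h

theorem fz_conj' (t : Equiv.Perm (Fin 4060)) (ht : t ∈ Gk gen 4) : fz⁻¹ * t * fz ∈ Gk gen 4 := by
  have e : fz⁻¹ * t * fz = fz * (fz * (fz * t * fz⁻¹) * fz⁻¹) * fz⁻¹ := by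
    calc fz⁻¹ * t * fz = fz⁻¹ * t * (fz⁻¹)⁻¹ := by rw [inv_inv]
      _ = (fz * fz * fz) * t * (fz * fz * fz)⁻¹ := by rw [fz_inv_eq]
      _ = fz * (fz * (fz * t * fz⁻¹) * fz⁻¹) * fz⁻¹ := by group
  rw [e]
  exact fz_conj _ (fz_conj _ (fz_conj _ ht))

theorem fz_sq_mem : fz * fz ∈ Gk gen 4 := by
  rw [fz_sq]; exact gen_mem_Gk gen (by decide)

theorem fz_not_mem : fz ∉ Gk gen 4 := fun h =>
  not_inner fz h (fun c hc => by rw [cj_perm c hc, mul_inv_cancel_right])

/-! ### the group `Q2` -/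

/-- the permutations preserving a set of points -/
def setStab (B : Set (Fin 4060)) : Subgroup (Equiv.Perm (Fin 4060)) where
  carrier := {q | ∀ y, y ∈ B ↔ q y ∈ B}
  mul_mem' := fun {a b} ha hb y => by
    rw [Equiv.Perm.mul_apply]; exact (hb y).trans (ha (b y))
  one_mem' := fun _ => Iff.rfl
  inv_mem' := fun {a} ha y => by
    have h := ha (a⁻¹ y)
    rw [← Equiv.Perm.mul_apply, mul_inv_cancel, Equiv.Perm.one_apply] at h
    exact h.symm

/-- the group `²F₄(2)` on 4060 points -/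
noncomputable def Q2 : Subgroup (Equiv.Perm (Fin 4060)) := Gk gen 4 ⊔ Zf

theorem T_le_Q2 : Gk gen 4 ≤ Q2 := le_sup_left

theorem fz_mem_Q2 : fz ∈ Q2 := (le_sup_right : Zf ≤ Q2) (Subgroup.mem_zpowers fz)

theorem card_Q2 : Nat.card Q2 = 35942400 := by
  have k1 := chain1
  have k2 := chain2
  have k3 := chain3
  have k4 := chain4
  have kz := card_Zf
  have ko := orders.2
  unfold Q2
  omega

theorem Q2_O1 : Q2 ≤ setStab O1 := by
  unfold Q2
  apply sup_le
  · unfold Gk
    rw [Subgroup.closure_le]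
    rintro _ ⟨c, hc, rfl⟩
    exact O1_inv c hc
  · unfold Zf
    rw [Subgroup.zpowers_le]
    exact fz_O1

theorem qg_mem (c : ℕ) : qg c ∈ Q2 := by
  unfold qg
  by_cases h : c < 4
  · rw [if_pos h]; exact T_le_Q2 (gen_mem_Gk gen h)
  · rw [if_neg h]; exact fz_mem_Q2

theorem qword_mem (l : List ℕ) : (l.map qg).prod ∈ Q2 := by
  induction l with
  | nil => exact Subgroup.one_mem _
  | cons a l ih =>
    rw [List.map_cons, List.prod_cons]
    exact Subgroup.mul_mem _ (qg_mem a) ih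

/-! ### the two cosets of the Tits group -/

/-- the coset of the Tits group in `Q2` -/
def inC (b : Bool) (u : Equiv.Perm (Fin 4060)) : Prop :=
  cond b (fz⁻¹ * u ∈ Gk gen 4) (u ∈ Gk gen 4)

theorem inC_mul (b b' : Bool) (u v : Equiv.Perm (Fin 4060)) (hu : inC b u) (hv : inC b' v) :
    inC (Bool.xor b b') (u * v) := by
  cases b <;> cases b'
  · exact Subgroup.mul_mem _ hu hv
  · show fz⁻¹ * (u * v) ∈ Gk gen 4
    have : fz⁻¹ * (u * v) = (fz⁻¹ * u * fz) * (fz⁻¹ * v) := by group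
    rw [this]; exact Subgroup.mul_mem _ (fz_conj' u hu) hv
  · show fz⁻¹ * (u * v) ∈ Gk gen 4
    have : fz⁻¹ * (u * v) = (fz⁻¹ * u) * v := by group
    rw [this]; exact Subgroup.mul_mem _ hu hv
  · show u * v ∈ Gk gen 4
    have : u * v = (fz * fz) * (fz⁻¹ * (fz⁻¹ * u) * fz) * (fz⁻¹ * v) := by group
    rw [this]
    exact Subgroup.mul_mem _ (Subgroup.mul_mem _ fz_sq_mem (fz_conj' _ hu)) hv

theorem inC_qg (c : ℕ) : inC (Nat.ble 4 c) (qg c) := by
  unfold qg
  by_cases h : c < 4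
  · have hb : Nat.ble 4 c = false := by
      cases hb : Nat.ble 4 c with
      | false => rfl
      | true => exact absurd (Nat.le_of_ble_eq_true hb) (by omega)
    rw [if_pos h, hb]
    exact gen_mem_Gk gen h
  · have hb : Nat.ble 4 c = true := Nat.ble_eq_true_of_le (by omega)
    rw [if_neg h, hb]
    show fz⁻¹ * fz ∈ Gk gen 4
    rw [inv_mul_cancel]
    exact Subgroup.one_mem _

theorem inC_word (l : List ℕ) : inC (wpar l) ((l.map qg).prod) := by
  induction l with
  | nil => exact Subgroup.one_mem _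
  | cons a l ih =>
    rw [List.map_cons, List.prod_cons]
    exact inC_mul _ _ _ _ (inC_qg a) ih

/-! ### the stabiliser of the point `2305` -/

theorem card_P1 :
    Nat.card (Q2 ⊓ St ⟨2305, lt2305⟩ : Subgroup (Equiv.Perm (Fin 4060))) ≤ 20480 := by
  have h := card_ge_of_interval Q2 (Q2 ⊓ St ⟨2305, lt2305⟩) ⟨2305, lt2305⟩ 2305 4060 (le_refl _)
    (fun y h1 h2 => by
      obtain ⟨h, hh, e⟩ := reachO1 y h1 h2
      exact ⟨h, T_le_Q2 hh, e⟩)
    inf_le_left (fun h hh => hh.2)
  have hc := card_Q2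
  omega

theorem chkA_spec : ∀ (l : List (List ℕ)) (k : ℕ), chkA l k = true → ∀ i, i < l.length →
    walkA QT (nthL l i) 2305 = 2305 ∧ walkA QT (nthL l i) 2306 = 2306 + k + i := by
  intro l
  induction l with
  | nil => intro k _ i hi; exact absurd hi (Nat.not_lt_zero _)
  | cons a l ih =>
    intro k h i hi
    have h' : (Nat.beq (walkA QT a 2305) 2305 && (Nat.beq (walkA QT a 2306) (Nat.add 2306 k) &&
        chkA l (Nat.succ k))) = true := h
    simp only [Bool.and_eq_true] at h'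
    obtain ⟨h1, h2, h3⟩ := h'
    cases i with
    | zero =>
      rw [nthL_cons_zero]
      exact ⟨Nat.eq_of_beq_eq_true h1, Nat.eq_of_beq_eq_true h2⟩
    | succ i =>
      have h4 := ih (Nat.succ k) h3 i (Nat.lt_of_succ_lt_succ hi)
      rw [nthL_cons_succ]
      refine ⟨h4.1, ?_⟩
      rw [h4.2]
      omega

theorem invA_spec (i : ℕ) (hi : i < 1024) :
    walkA QT (nthL invA i) 2305 = 2305 ∧ walkA QT (nthL invA i) 2306 = 2306 + i := by
  have h := chkA_spec invA 0 chkA_all i (by rw [invA_length]; exact hi)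
  refine ⟨h.1, ?_⟩
  rw [h.2]

theorem invB_spec (j : ℕ) (hj : j < 20) :
    walkA QT (nthL invB j) 2305 = 2305 ∧ walkA QT (nthL invB j) 2306 = 2306 := by
  have hm : nthL invB j ∈ invB := nthL_lt_mem invB j (by rw [invB_length]; exact hj)
  have h := (listAll_iff _ _).mp chkB_all _ hm
  simp only [Bool.and_eq_true] at h
  exact ⟨Nat.eq_of_beq_eq_true h.1, Nat.eq_of_beq_eq_true h.2⟩

theorem invB_inj (j j' : ℕ) (hj : j < 20) (hj' : j' < 20)
    (h : walkA QT (nthL invB j) 1 = walkA QT (nthL invB j') 1) : j = j' := by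
  have h1 := (allBelow_iff _ _).mp ((allBelow_iff _ _).mp chkB2_all j hj) j' hj'
  simp only [Bool.or_eq_true, Bool.not_eq_true'] at h1
  rcases h1 with h1 | h1
  · exact Nat.eq_of_beq_eq_true h1
  · rw [h, Nat.beq_refl] at h1
    exact absurd h1 (by decide)

theorem sq_all : ∀ a ∈ invA, ∀ b ∈ invB, sqOK a b = true := by
  intro a ha b hb
  unfold invA at ha
  simp only [List.mem_append] at ha
  rcases ha with ha | ha | ha | ha | ha | ha | ha | ha
  · exact (listAll_iff _ _).mp ((listAll_iff _ _).mp sq_0 a ha) b hb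
  · exact (listAll_iff _ _).mp ((listAll_iff _ _).mp sq_1 a ha) b hb
  · exact (listAll_iff _ _).mp ((listAll_iff _ _).mp sq_2 a ha) b hb
  · exact (listAll_iff _ _).mp ((listAll_iff _ _).mp sq_3 a ha) b hb
  · exact (listAll_iff _ _).mp ((listAll_iff _ _).mp sq_4 a ha) b hb
  · exact (listAll_iff _ _).mp ((listAll_iff _ _).mp sq_5 a ha) b hb
  · exact (listAll_iff _ _).mp ((listAll_iff _ _).mp sq_6 a ha) b hb
  · exact (listAll_iff _ _).mp ((listAll_iff _ _).mp sq_7 a ha) b hb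

/-- the elements of the stabiliser of `2305` in `Q2` -/
theorem P1_elems (u : Equiv.Perm (Fin 4060)) (hu : u ∈ Q2)
    (hfix : u ⟨2305, lt2305⟩ = ⟨2305, lt2305⟩) :
    ∃ i, i < 1024 ∧ ∃ j, j < 20 ∧
      u = ((nthL invA i).map qg).prod * ((nthL invB j).map qg).prod := by
  classical
  obtain ⟨P1, hP1⟩ : ∃ P1 : Subgroup (Equiv.Perm (Fin 4060)), P1 = Q2 ⊓ St ⟨2305, lt2305⟩ :=
    ⟨_, rfl⟩
  have hmem : ∀ (i : Fin 1024) (j : Fin 20),
      ((nthL invA i.val).map qg).prod * ((nthL invB j.val).map qg).prod ∈ P1 := by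
    intro i j
    rw [hP1]
    refine ⟨Subgroup.mul_mem _ (qword_mem _) (qword_mem _), ?_⟩
    show (((nthL invA i.val).map qg).prod * ((nthL invB j.val).map qg).prod)
      (⟨2305, lt2305⟩ : Fin 4060) = ⟨2305, lt2305⟩
    rw [Equiv.Perm.mul_apply, ev_at _ 2305 lt2305 2305 lt2305 (invB_spec j.val j.2).1,
      ev_at _ 2305 lt2305 2305 lt2305 (invA_spec i.val i.2).1]
  obtain ⟨f, hf⟩ : ∃ f : Fin 1024 × Fin 20 → P1, ∀ p, (f p : Equiv.Perm (Fin 4060)) =
      ((nthL invA p.1.val).map qg).prod * ((nthL invB p.2.val).map qg).prod :=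
    ⟨fun p => ⟨_, hmem p.1 p.2⟩, fun _ => rfl⟩
  have hinj : Function.Injective f := by
    rintro ⟨i, j⟩ ⟨i', j'⟩ h
    have h0 : ((nthL invA i.val).map qg).prod * ((nthL invB j.val).map qg).prod =
        ((nthL invA i'.val).map qg).prod * ((nthL invB j'.val).map qg).prod := by
      rw [← hf (i, j), ← hf (i', j'), h]
    have h1 : ((((nthL invA i.val).map qg).prod * ((nthL invB j.val).map qg).prod)
        (⟨2306, lt2306⟩ : Fin 4060)).val =
        ((((nthL invA i'.val).map qg).prod * ((nthL invB j'.val).map qg).prod)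
        (⟨2306, lt2306⟩ : Fin 4060)).val := by rw [h0]
    rw [Equiv.Perm.mul_apply, Equiv.Perm.mul_apply,
      ev_at _ 2306 lt2306 2306 lt2306 (invB_spec j.val j.2).2,
      ev_at _ 2306 lt2306 2306 lt2306 (invB_spec j'.val j'.2).2, qword_apply, qword_apply,
      (invA_spec i.val i.2).2, (invA_spec i'.val i'.2).2] at h1
    have hi : i = i' := Fin.ext (by omega)
    subst hi
    have h2 : ((nthL invB j.val).map qg).prod = ((nthL invB j'.val).map qg).prod :=
      mul_left_cancel h0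
    have h3 : ((((nthL invB j.val).map qg).prod) (⟨1, lt1⟩ : Fin 4060)).val =
        ((((nthL invB j'.val).map qg).prod) (⟨1, lt1⟩ : Fin 4060)).val := by rw [h2]
    rw [qword_apply, qword_apply] at h3
    have hj : j = j' := Fin.ext (invB_inj j.val j'.val j.2 j'.2 h3)
    rw [hj]
  have hcard : Nat.card P1 ≤ Nat.card (Fin 1024 × Fin 20) := by
    rw [Nat.card_prod, Nat.card_fin, Nat.card_fin, hP1]
    exact card_P1
  have hbij := hinj.bijective_of_nat_card_le hcard
  obtain ⟨⟨i, j⟩, hij⟩ := hbij.2 ⟨u, by rw [hP1]; exact ⟨hu, hfix⟩⟩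
  refine ⟨i.val, i.2, j.val, j.2, ?_⟩
  have := congrArg Subtype.val hij
  rw [hf] at this
  exact this.symm

/-! ### fixed points of involutions -/

theorem exists_fix_O1 (u : Equiv.Perm (Fin 4060)) (hu : ∀ y, y ∈ O1 ↔ u y ∈ O1)
    (h2 : u * u = 1) : ∃ y, y ∈ O1 ∧ u y = y := by
  classical
  have hprime : Fact (Nat.Prime 2) := ⟨Nat.prime_two⟩
  obtain ⟨σ, hσ⟩ : ∃ σ : Equiv.Perm {y : Fin 4060 // y ∈ O1}, ∀ y, (σ y : Fin 4060) = u y.1 :=
    ⟨u.subtypePerm (fun y => (hu y).symm), fun _ => rfl⟩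
  have hσ2 : σ ^ 2 ^ 1 = 1 := by
    apply Equiv.ext
    intro y
    apply Subtype.ext
    rw [pow_one, pow_two, Equiv.Perm.mul_apply, hσ, hσ, ← Equiv.Perm.mul_apply, h2]
    rfl
  have hcard : ¬ 2 ∣ Fintype.card {y : Fin 4060 // y ∈ O1} := by
    have : Fintype.card {y : Fin 4060 // y ∈ O1} = 1755 := by
      rw [← Nat.card_eq_fintype_card]
      exact (Nat.card_coe_set_eq O1).trans O1_card
    rw [this]
    decide
  obtain ⟨y, hy⟩ := Equiv.Perm.exists_fixed_point_of_prime hcard hσ2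
  refine ⟨y.1, y.2, ?_⟩
  rw [← hσ, hy]

/-! ### the theorem -/

/-- No element of `Q2` outside the Tits group squares to the identity. -/
theorem no_invol (u : Equiv.Perm (Fin 4060)) (hu : u ∈ Q2) (hT : u ∉ Gk gen 4)
    (h2 : u * u = 1) : False := by
  obtain ⟨y, hy, hfix⟩ := exists_fix_O1 u (Q2_O1 hu) h2
  obtain ⟨h, hh, e⟩ := reachO1 y.val hy.1 hy.2
  have e' : h ⟨2305, lt2305⟩ = y := Fin.ext e
  obtain ⟨u', hu'⟩ : ∃ u' : Equiv.Perm (Fin 4060), u' = h⁻¹ * u * h := ⟨_, rfl⟩
  have hu'Q : u' ∈ Q2 := by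
    rw [hu']
    exact Subgroup.mul_mem _ (Subgroup.mul_mem _ (Subgroup.inv_mem _ (T_le_Q2 hh)) hu) (T_le_Q2 hh)
  have hu'fix : u' ⟨2305, lt2305⟩ = ⟨2305, lt2305⟩ := by
    rw [hu', Equiv.Perm.mul_apply, Equiv.Perm.mul_apply, e', hfix, Equiv.Perm.inv_eq_iff_eq, e']
  have hu'2 : u' * u' = 1 := by
    rw [hu']
    calc h⁻¹ * u * h * (h⁻¹ * u * h) = h⁻¹ * (u * u) * h := by group
      _ = 1 := by rw [h2]; group
  have hu'T : u' ∉ Gk gen 4 := by
    intro hmem
    apply hT
    have : u = h * u' * h⁻¹ := by rw [hu']; group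
    rw [this]
    exact Subgroup.mul_mem _ (Subgroup.mul_mem _ hh hmem) (Subgroup.inv_mem _ hh)
  obtain ⟨i, hi, j, hj, huij⟩ := P1_elems u' hu'Q hu'fix
  have ha : nthL invA i ∈ invA := nthL_lt_mem invA i (by rw [invA_length]; exact hi)
  have hb : nthL invB j ∈ invB := nthL_lt_mem invB j (by rw [invB_length]; exact hj)
  have hsq := sq_all _ ha _ hb
  have hpar : Bool.xor (wpar (nthL invA i)) (wpar (nthL invB j)) = true := by
    cases hp : Bool.xor (wpar (nthL invA i)) (wpar (nthL invB j)) with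
    | true => rfl
    | false =>
      exfalso
      have h3 := inC_mul _ _ _ _ (inC_word (nthL invA i)) (inC_word (nthL invB j))
      rw [hp] at h3
      exact hu'T (by rw [huij]; exact h3)
  have hW : ∀ x (hx : x < 4060), walkA QT (nthL invA i) (walkA QT (nthL invB j)
      (walkA QT (nthL invA i) (walkA QT (nthL invB j) x))) = x := by
    intro x hx
    have h4 : ((u' * u') (⟨x, hx⟩ : Fin 4060)).val = x := by rw [hu'2]; rfl
    rw [huij, Equiv.Perm.mul_apply, Equiv.Perm.mul_apply, Equiv.Perm.mul_apply, qword_apply,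
      qword_apply, qword_apply, qword_apply] at h4
    exact h4
  unfold sqOK at hsq
  rw [hpar, hW 2306 lt2306, hW 1 lt1] at hsq
  exact absurd hsq (by decide)

end Cfsg.Agent.Helper56.Tits
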