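/-!
# Data for the Tits group has no 2-transitive action (helper56)

Words in the four generating involutions `gen 0 .. gen 3` of the Tits group on 4060 points:
`ttE` the 27 elements of a Sylow 3-subgroup, `ttEm` its multiplication table, `ttEc` words
conjugating each element to the second one; `ttS`, `ttSm`, `ttSc` the same for a Sylow 5-subgroup;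
`ttX` an element of order 13 and `ttY` an element of order 3 with `ttY ttX ttY⁻¹ = ttX ^ 3`.
-/

set_option autoImplicit false

namespace Cfsg.Agent.Helper56.Tits

def ttE : List (List Nat) :=
  [[],
  [0, 2],
  [2, 0],
  [1, 0, 2, 1, 3, 2, 3, 1, 0, 3, 1, 0, 2, 3, 0],
  [1, 0, 3, 0, 1, 0, 1, 2, 3, 2, 3, 2, 3, 2, 0, 3, 0, 1],
  [1, 3, 1, 0, 1, 3, 1, 2, 0, 1, 3, 1, 2, 3, 0, 2, 0, 1, 0],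
  [0, 1, 3, 1, 0, 1, 3, 1, 2, 0, 1, 3, 1, 2, 3, 0, 2, 0, 1],
  [1, 3, 0, 2, 1, 0, 3, 1, 0, 1, 0, 2, 3, 1, 2, 3, 2, 3, 1],
  [0, 1, 0, 3, 2, 0, 1, 0, 1, 3, 2, 1, 3, 2, 0, 1, 2, 1, 0, 1],
  [1, 0, 2, 1, 3, 1, 0, 1, 0, 2, 0, 2, 3, 0, 1, 2, 0, 3, 2, 1],
  [0, 1, 3, 0, 2, 0, 1, 3, 1, 0, 1, 2, 3, 1, 3, 2, 0, 1, 0, 3],
  [0, 1, 2, 0, 1, 3, 1, 0, 3, 2, 1, 3, 1, 2, 3, 1, 0, 2, 1, 3],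
  [1, 0, 2, 1, 3, 2, 3, 1, 0, 3, 1, 0, 2, 3, 0, 1, 0, 3, 1, 3, 0, 1, 0, 2, 1, 0, 1],
  [1, 0, 1, 2, 0, 1, 2, 0, 2, 0, 2, 3, 1, 0, 1, 0, 1, 2, 3, 2, 3, 2, 3, 2, 0, 3, 0, 1],
  [1, 0, 3, 1, 3, 0, 1, 0, 2, 1, 0, 3, 0, 2, 1, 0, 3, 1, 0, 1, 0, 2, 3, 1, 2, 3, 2, 3, 1],
  [1, 0, 2, 1, 3, 2, 3, 1, 0, 3, 1, 0, 2, 3, 0, 1, 0, 2, 1, 3, 2, 3, 1, 0, 3, 1, 0, 2, 3, 0],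
  [0, 1, 3, 2, 1, 3, 0, 2, 0, 2, 0, 3, 1, 2, 3, 1, 0, 1, 0, 2, 1, 0, 2, 1, 0, 2, 3, 1, 3, 2, 1, 0],
  [1, 0, 1, 0, 3, 1, 3, 0, 3, 1, 3, 0, 1, 0, 1, 3, 1, 0, 3, 2, 1, 3, 0, 1, 0, 3, 1, 2, 3, 0, 1, 3],
  [1, 0, 2, 1, 3, 2, 3, 1, 0, 3, 1, 0, 2, 3, 1, 3, 1, 0, 1, 3, 1, 2, 0, 1, 3, 1, 2, 3, 0, 2, 0, 1],
  [1, 0, 1, 2, 0, 1, 2, 0, 2, 0, 2, 3, 1, 3, 2, 1, 3, 1, 0, 1, 0, 2, 0, 2, 3, 0, 1, 2, 0, 3, 2, 1],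
  [1, 0, 3, 1, 3, 0, 1, 0, 2, 1, 0, 1, 0, 1, 3, 0, 2, 0, 1, 3, 1, 0, 1, 2, 3, 1, 3, 2, 0, 1, 0, 3],
  [1, 0, 2, 1, 3, 2, 3, 1, 0, 3, 1, 0, 2, 3, 0, 1, 0, 3, 0, 1, 0, 1, 2, 3, 2, 3, 2, 3, 2, 0, 3, 0, 1],
  [1, 0, 2, 1, 0, 2, 1, 0, 2, 3, 1, 3, 2, 1, 0, 3, 0, 1, 0, 2, 0, 3, 1, 0, 3, 1, 0, 1, 0, 3, 0, 2, 1, 0],
  [1, 0, 2, 1, 0, 2, 1, 0, 2, 3, 1, 3, 2, 1, 0, 1, 2, 0, 3, 0, 1, 0, 1, 3, 0, 1, 3, 0, 2, 0, 1, 0, 3, 0],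
  [1, 0, 1, 0, 3, 1, 3, 0, 3, 1, 3, 0, 1, 0, 1, 0, 1, 0, 3, 2, 3, 1, 2, 1, 3, 1, 3, 2, 3, 1, 2, 1, 0, 1, 0],
  [1, 0, 1, 2, 0, 1, 2, 0, 2, 0, 2, 3, 1, 3, 0, 1, 0, 1, 0, 3, 2, 0, 1, 0, 1, 3, 2, 1, 3, 2, 0, 1, 2, 1, 0, 1],
  [1, 0, 1, 0, 3, 1, 3, 0, 3, 1, 3, 0, 1, 0, 1, 0, 3, 0, 1, 0, 3, 0, 2, 3, 1, 2, 1, 2, 1, 3, 1, 0, 3, 1, 2, 3]]

def ttEm : List (List Nat) :=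
  [[0, 1, 2, 3, 4, 5, 6, 7, 8, 9, 10, 11, 12, 13, 14, 15, 16, 17, 18, 19, 20, 21, 22, 23, 24, 25, 26],
  [1, 2, 0, 12, 11, 24, 3, 14, 21, 23, 20, 13, 6, 4, 22, 26, 10, 5, 15, 9, 16, 25, 7, 19, 17, 8, 18],
  [2, 0, 1, 6, 13, 17, 12, 22, 25, 19, 16, 4, 3, 11, 7, 18, 20, 24, 26, 23, 10, 8, 14, 9, 5, 21, 15],
  [3, 12, 6, 15, 21, 16, 18, 17, 23, 11, 22, 25, 26, 8, 5, 0, 14, 20, 2, 4, 7, 19, 24, 13, 10, 9, 1],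
  [4, 11, 13, 25, 16, 18, 21, 3, 14, 5, 1, 10, 8, 20, 12, 23, 0, 26, 9, 17, 2, 22, 6, 24, 15, 7, 19],
  [5, 24, 17, 20, 15, 25, 10, 11, 1, 6, 9, 26, 16, 18, 13, 22, 19, 21, 14, 12, 23, 2, 4, 3, 8, 0, 7],
  [6, 3, 12, 18, 8, 20, 26, 24, 9, 4, 14, 21, 15, 25, 17, 2, 7, 10, 1, 13, 22, 23, 5, 11, 16, 19, 0],
  [7, 14, 22, 24, 6, 4, 5, 19, 15, 1, 21, 3, 17, 12, 9, 16, 8, 13, 20, 0, 25, 26, 23, 2, 11, 18, 10],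
  [8, 21, 25, 19, 7, 1, 23, 18, 17, 20, 3, 14, 9, 22, 15, 11, 6, 0, 4, 10, 12, 5, 26, 16, 2, 24, 13],
  [9, 23, 19, 13, 24, 3, 11, 1, 10, 22, 18, 17, 4, 5, 2, 21, 26, 6, 8, 14, 15, 20, 0, 7, 12, 16, 25],
  [10, 20, 16, 14, 1, 23, 7, 8, 6, 15, 13, 2, 22, 0, 21, 17, 11, 9, 24, 18, 4, 3, 25, 26, 19, 12, 5],
  [11, 13, 4, 8, 10, 15, 25, 12, 22, 24, 2, 20, 21, 16, 6, 19, 1, 18, 23, 5, 0, 7, 3, 17, 26, 14, 9],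
  [12, 6, 3, 26, 25, 10, 15, 5, 19, 13, 7, 8, 18, 21, 24, 1, 22, 16, 0, 11, 14, 9, 17, 4, 20, 23, 2],
  [13, 4, 11, 21, 20, 26, 8, 6, 7, 17, 0, 16, 25, 10, 3, 9, 2, 15, 19, 24, 1, 14, 12, 5, 18, 22, 23],
  [14, 22, 7, 17, 3, 11, 24, 9, 26, 2, 25, 12, 5, 6, 23, 10, 21, 4, 16, 1, 8, 18, 19, 0, 13, 15, 20],
  [15, 26, 18, 0, 19, 14, 2, 20, 13, 25, 24, 9, 1, 23, 16, 3, 5, 7, 6, 21, 17, 4, 10, 8, 22, 11, 12],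
  [16, 10, 20, 7, 0, 9, 22, 25, 12, 18, 11, 1, 14, 2, 8, 24, 4, 19, 5, 26, 13, 6, 21, 15, 23, 3, 17],
  [17, 5, 24, 10, 18, 21, 16, 4, 0, 12, 19, 15, 20, 26, 11, 14, 23, 8, 7, 3, 9, 1, 13, 6, 25, 2, 22],
  [18, 15, 26, 2, 23, 7, 1, 10, 11, 21, 5, 19, 0, 9, 20, 6, 17, 22, 12, 8, 24, 13, 16, 25, 14, 4, 3],
  [19, 9, 23, 11, 5, 6, 4, 0, 16, 14, 26, 24, 13, 17, 1, 8, 15, 12, 25, 7, 18, 10, 2, 22, 3, 20, 21],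
  [20, 16, 10, 22, 2, 19, 14, 21, 3, 26, 4, 0, 7, 1, 25, 5, 13, 23, 17, 15, 11, 12, 8, 18, 9, 6, 24],
  [21, 25, 8, 9, 14, 2, 19, 15, 5, 16, 12, 22, 23, 7, 26, 13, 3, 1, 11, 20, 6, 24, 18, 10, 0, 17, 4],
  [22, 7, 14, 5, 12, 13, 17, 23, 18, 0, 8, 6, 24, 3, 19, 20, 25, 11, 10, 2, 21, 15, 9, 1, 4, 26, 16],
  [23, 19, 9, 4, 17, 12, 13, 2, 20, 7, 15, 5, 11, 24, 0, 25, 18, 3, 21, 22, 26, 16, 1, 14, 6, 10, 8],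
  [24, 17, 5, 16, 26, 8, 20, 13, 2, 3, 23, 18, 10, 15, 4, 7, 9, 25, 22, 6, 19, 0, 11, 12, 21, 1, 14],
  [25, 8, 21, 23, 22, 0, 9, 26, 24, 10, 6, 7, 19, 14, 18, 4, 12, 2, 13, 16, 3, 17, 15, 20, 1, 5, 11],
  [26, 18, 15, 1, 9, 22, 0, 16, 4, 8, 17, 23, 2, 19, 10, 12, 24, 14, 3, 25, 5, 11, 20, 21, 7, 13, 6]]

def ttEc : List (List Nat) :=
  [[],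
  [],
  [0],
  [1, 0, 1, 0, 1, 3, 1, 0, 1, 0, 1],
  [0, 3, 2, 3, 1, 2, 3, 1, 0, 1, 0, 2, 3],
  [1, 0, 1, 0, 3, 0, 2, 1, 0, 2, 1],
  [0, 1, 3, 2, 0, 3, 1, 0, 2, 0, 3, 1],
  [1, 0, 2, 0, 3, 1, 0, 2, 3, 0, 1, 2, 3],
  [0, 1, 3, 0, 2, 0, 1, 3, 0, 2, 3, 1],
  [3, 2, 1, 0, 3, 2, 0, 1, 3, 0, 2, 0, 1],
  [0, 1, 2, 3, 2, 3, 2, 3, 2, 1],
  [1, 2, 3, 2, 3, 2, 3, 1, 2, 1],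
  [1, 0, 2, 1, 3, 0, 2, 0, 3, 1, 2, 0, 1],
  [1, 2, 3, 2, 3, 2, 3, 2, 1],
  [0, 3, 0, 1, 3, 1, 0, 3],
  [3, 1, 2, 0, 1, 0, 1, 0, 2, 1, 3],
  [3, 2, 3, 1, 2, 3, 1, 0, 1, 0, 2, 3],
  [1, 3, 0, 2, 0, 1, 3, 0, 2, 3, 1],
  [1, 3, 0, 1, 0, 1, 0, 1, 3, 1, 2, 3, 1],
  [3, 0, 1, 0, 3, 2, 3, 1, 2, 0, 1, 2, 3],
  [0, 1, 2, 3, 2, 3, 2, 3, 1, 2, 1],
  [0, 1, 3, 2, 1, 3, 1, 0, 1, 0, 1, 0, 3, 1],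
  [3, 0, 1, 2, 1, 0, 2, 3, 2, 1, 0, 2, 3],
  [3, 0, 1, 3, 1, 0, 3],
  [1, 3, 2, 1, 3, 1, 0, 1, 0, 1, 0, 3, 1],
  [0, 1, 0, 1, 0, 3, 0, 2, 1, 0, 2, 1],
  [1, 3, 2, 0, 3, 1, 0, 2, 0, 3, 1]]

def ttS : List (List Nat) :=
  [[],
  [1, 2, 3, 2, 3, 2],
  [3, 0, 2, 3, 1, 3, 2, 3, 2, 1, 2, 0, 3, 2, 1, 3, 0],
  [1, 3, 0, 2, 1, 3, 2, 1, 3, 1, 0, 1, 0, 1, 0, 1, 0, 3],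
  [1, 3, 1, 2, 0, 1, 0, 1, 3, 0, 3, 1, 0, 1, 0, 2, 1, 3],
  [2, 3, 0, 1, 3, 2, 1, 3, 0, 3, 2, 3, 0, 1, 2, 3, 1, 0],
  [1, 3, 0, 2, 1, 0, 1, 2, 0, 2, 1, 3, 0, 1, 2, 3, 0, 2, 1, 0, 1, 2, 0, 2, 1, 3, 0, 1, 2, 1],
  [1, 3, 1, 2, 0, 1, 0, 1, 3, 0, 3, 1, 0, 1, 0, 2, 1, 0, 2, 3, 1, 3, 2, 3, 2, 1, 2, 0, 3, 2, 1, 3, 0],
  [3, 1, 0, 2, 1, 3, 1, 2, 3, 2, 0, 3, 0, 2, 3, 1, 2, 0, 1, 3, 0, 2, 1, 0, 1, 2, 0, 2, 1, 3, 0, 1, 2, 1],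
  [2, 1, 0, 2, 3, 0, 2, 1, 2, 0, 2, 1, 0, 3, 1, 2, 3, 0, 1, 3, 0, 2, 1, 0, 1, 2, 0, 2, 1, 3, 0, 1, 2, 1],
  [3, 0, 2, 3, 1, 3, 2, 3, 2, 1, 2, 0, 3, 2, 1, 3, 0, 3, 0, 2, 3, 1, 3, 2, 3, 2, 1, 2, 0, 3, 2, 1, 3, 0],
  [1, 3, 0, 2, 1, 0, 1, 2, 0, 2, 1, 3, 0, 1, 2, 1, 2, 1, 0, 2, 3, 0, 2, 1, 2, 0, 2, 1, 0, 3, 1, 2, 3, 0],
  [2, 3, 0, 1, 3, 2, 1, 3, 0, 3, 2, 3, 0, 1, 2, 3, 1, 0, 3, 0, 2, 3, 1, 3, 2, 3, 2, 1, 2, 0, 3, 2, 1, 3, 0],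
  [1, 3, 0, 2, 1, 3, 2, 1, 3, 1, 0, 1, 0, 1, 0, 1, 0, 3, 1, 3, 0, 2, 1, 3, 2, 1, 3, 1, 0, 1, 0, 1, 0, 1, 0, 3],
  [2, 3, 0, 1, 3, 2, 1, 3, 0, 3, 2, 3, 0, 1, 2, 3, 1, 0, 1, 3, 0, 2, 1, 3, 2, 1, 3, 1, 0, 1, 0, 1, 0, 1, 0, 3],
  [1, 3, 1, 2, 0, 1, 0, 1, 3, 0, 3, 1, 0, 1, 0, 2, 1, 3, 1, 3, 1, 2, 0, 1, 0, 1, 3, 0, 3, 1, 0, 1, 0, 2, 1, 3],
  [1, 3, 0, 1, 0, 2, 3, 0, 2, 3, 1, 0, 3, 2, 1, 0, 1, 0, 1, 3, 0, 1, 0, 2, 3, 0, 2, 3, 1, 0, 3, 2, 1, 0, 1, 0],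
  [2, 1, 0, 2, 3, 0, 2, 1, 2, 0, 2, 1, 0, 3, 1, 2, 3, 0, 1, 3, 0, 1, 0, 2, 3, 0, 2, 3, 1, 0, 3, 2, 1, 0, 1, 0],
  [1, 3, 0, 2, 1, 3, 2, 1, 3, 1, 0, 1, 0, 1, 0, 1, 0, 3, 1, 3, 0, 2, 1, 0, 1, 2, 0, 2, 1, 3, 0, 1, 2, 3, 0, 2, 1, 0, 1, 2, 0, 2, 1, 3, 0, 1, 2, 1],
  [1, 3, 1, 2, 0, 1, 0, 1, 3, 0, 3, 1, 0, 1, 0, 2, 1, 0, 2, 3, 1, 3, 2, 3, 2, 1, 2, 0, 3, 2, 1, 3, 0, 3, 0, 2, 3, 1, 3, 2, 3, 2, 1, 2, 0, 3, 2, 1, 3, 0],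
  [2, 1, 0, 2, 3, 0, 2, 1, 2, 0, 2, 1, 0, 3, 1, 2, 3, 0, 3, 0, 2, 3, 1, 3, 2, 3, 2, 1, 2, 0, 3, 2, 1, 3, 0, 1, 3, 0, 2, 1, 0, 1, 2, 0, 2, 1, 3, 0, 1, 2, 1],
  [1, 3, 1, 2, 0, 1, 0, 1, 3, 0, 3, 1, 0, 1, 0, 2, 1, 3, 1, 3, 1, 2, 0, 1, 0, 1, 3, 0, 3, 1, 0, 1, 0, 2, 1, 0, 2, 3, 1, 3, 2, 3, 2, 1, 2, 0, 3, 2, 1, 3, 0],
  [3, 1, 0, 2, 1, 3, 1, 2, 3, 2, 0, 3, 0, 2, 3, 1, 2, 0, 1, 3, 0, 2, 1, 3, 2, 1, 3, 1, 0, 1, 0, 1, 0, 1, 0, 3, 1, 3, 0, 2, 1, 0, 1, 2, 0, 2, 1, 3, 0, 1, 2, 1],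
  [2, 1, 0, 2, 3, 0, 2, 1, 2, 0, 2, 1, 0, 3, 1, 2, 3, 0, 1, 3, 1, 2, 0, 1, 0, 1, 3, 0, 3, 1, 0, 1, 0, 2, 1, 3, 1, 3, 0, 2, 1, 0, 1, 2, 0, 2, 1, 3, 0, 1, 2, 1],
  [2, 3, 0, 1, 3, 2, 1, 3, 0, 3, 2, 3, 0, 1, 2, 3, 1, 0, 3, 0, 2, 3, 1, 3, 2, 3, 2, 1, 2, 0, 3, 2, 1, 3, 0, 3, 0, 2, 3, 1, 3, 2, 3, 2, 1, 2, 0, 3, 2, 1, 3, 0]]

def ttSm : List (List Nat) :=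
  [[0, 1, 2, 3, 4, 5, 6, 7, 8, 9, 10, 11, 12, 13, 14, 15, 16, 17, 18, 19, 20, 21, 22, 23, 24],
  [1, 5, 8, 9, 11, 16, 0, 22, 12, 14, 15, 2, 4, 23, 17, 24, 6, 18, 3, 13, 19, 20, 10, 21, 7],
  [2, 8, 10, 5, 7, 12, 11, 19, 15, 16, 23, 22, 24, 14, 6, 21, 4, 0, 1, 9, 3, 18, 13, 17, 20],
  [3, 9, 5, 13, 0, 14, 18, 2, 16, 23, 12, 1, 6, 15, 21, 4, 17, 20, 19, 10, 22, 7, 8, 24, 11],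
  [4, 11, 7, 0, 15, 2, 12, 21, 22, 1, 19, 24, 10, 3, 5, 13, 8, 16, 6, 18, 17, 14, 20, 9, 23],
  [5, 16, 12, 14, 2, 6, 1, 10, 4, 17, 24, 8, 11, 21, 18, 7, 0, 3, 9, 23, 13, 19, 15, 20, 22],
  [6, 0, 11, 18, 12, 1, 16, 24, 2, 3, 22, 4, 8, 19, 9, 10, 5, 14, 17, 20, 21, 23, 7, 13, 15],
  [7, 22, 19, 2, 21, 10, 24, 18, 13, 8, 9, 20, 23, 5, 12, 14, 15, 4, 11, 1, 0, 6, 3, 16, 17],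
  [8, 12, 15, 16, 22, 4, 2, 13, 24, 6, 21, 10, 7, 17, 0, 20, 11, 1, 5, 14, 9, 3, 23, 18, 19],
  [9, 14, 16, 23, 1, 17, 3, 8, 6, 21, 4, 5, 0, 24, 20, 11, 18, 19, 13, 15, 10, 22, 12, 7, 2],
  [10, 15, 23, 12, 19, 24, 22, 9, 21, 4, 17, 13, 20, 6, 11, 18, 7, 2, 8, 16, 5, 1, 14, 0, 3],
  [11, 2, 22, 1, 24, 8, 4, 20, 10, 5, 13, 7, 15, 9, 16, 23, 12, 6, 0, 3, 18, 17, 19, 14, 21],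
  [12, 4, 24, 6, 10, 11, 8, 23, 7, 0, 20, 15, 22, 18, 1, 19, 2, 5, 16, 17, 14, 9, 21, 3, 13],
  [13, 23, 14, 15, 3, 21, 19, 5, 17, 24, 6, 9, 18, 4, 7, 0, 20, 22, 10, 12, 8, 2, 16, 11, 1],
  [14, 17, 6, 21, 5, 18, 9, 12, 0, 20, 11, 16, 1, 7, 19, 2, 3, 13, 23, 24, 15, 10, 4, 22, 8],
  [15, 24, 21, 4, 13, 7, 10, 14, 20, 11, 18, 23, 19, 0, 2, 3, 22, 8, 12, 6, 16, 5, 17, 1, 9],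
  [16, 6, 4, 17, 8, 0, 5, 15, 11, 18, 7, 12, 2, 20, 3, 22, 1, 9, 14, 21, 23, 13, 24, 19, 10],
  [17, 18, 0, 20, 16, 3, 14, 4, 1, 19, 2, 6, 5, 22, 13, 8, 9, 23, 21, 7, 24, 15, 11, 10, 12],
  [18, 3, 1, 19, 6, 9, 17, 11, 5, 13, 8, 0, 16, 10, 23, 12, 14, 21, 20, 22, 7, 24, 2, 15, 4],
  [19, 13, 9, 10, 18, 23, 20, 1, 14, 15, 16, 3, 17, 12, 24, 6, 21, 7, 22, 8, 2, 11, 5, 4, 0],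
  [20, 19, 3, 22, 17, 13, 21, 0, 9, 10, 5, 18, 14, 8, 15, 16, 23, 24, 7, 2, 11, 4, 1, 12, 6],
  [21, 20, 18, 7, 14, 19, 23, 6, 3, 22, 1, 17, 9, 2, 10, 5, 13, 15, 24, 11, 4, 12, 0, 8, 16],
  [22, 10, 13, 8, 20, 15, 7, 3, 23, 12, 14, 19, 21, 16, 4, 17, 24, 11, 2, 5, 1, 0, 9, 6, 18],
  [23, 21, 17, 24, 9, 20, 13, 16, 18, 7, 0, 14, 3, 11, 22, 1, 19, 10, 15, 4, 12, 8, 6, 2, 5],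
  [24, 7, 20, 11, 23, 22, 15, 17, 19, 2, 3, 21, 13, 1, 8, 9, 10, 12, 4, 0, 6, 16, 18, 5, 14]]

def ttSc : List (List Nat) :=
  [[],
  [],
  [1, 3, 2, 3, 2, 0, 3, 1, 3, 2, 0, 3, 0, 2],
  [0, 1, 3, 2, 0, 3, 0, 1, 0, 1, 2, 3, 1, 0],
  [0, 1, 3, 2, 1, 0, 1, 0, 3, 0, 2, 3, 1, 0],
  [3, 2, 3, 1, 3, 2, 1, 3],
  [1],
  [1, 2, 3, 1, 2, 3, 1, 3],
  [1, 3, 2, 3, 2, 3, 1, 2, 1, 3],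
  [2, 3, 0, 2, 3, 0, 2, 3, 2, 1, 3],
  [2, 3, 1, 3, 0, 2, 1, 3, 2, 1, 0],
  [1, 3, 1, 2, 1, 3, 2, 3, 2, 3],
  [1, 2, 3, 0, 2, 3, 0, 2, 3, 2, 1, 3],
  [1, 2, 3, 0, 2, 3, 0, 1, 2, 3, 1, 2, 3],
  [3, 2, 3, 2, 3, 1, 2, 1, 3],
  [2, 3, 0, 2, 3, 0, 1, 2, 3, 1, 2, 3],
  [3, 1, 2, 3, 1, 3, 2, 3],
  [3, 2, 3, 2, 0, 3, 1, 3, 2, 0, 3, 0, 2],
  [3, 1, 2, 1, 3, 2, 3, 2, 3],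
  [1, 3, 1, 3, 2, 1, 3, 2],
  [2, 3, 1, 2, 3, 1, 3],
  [1, 2, 3, 0, 2, 3, 0, 2, 1, 3, 2, 3],
  [2, 3, 0, 2, 3, 0, 2, 1, 3, 2, 3],
  [1, 2, 3, 1, 3, 0, 2, 1, 3, 2, 1, 0],
  [3, 1, 3, 2, 1, 3, 2]]

def ttX : List Nat := [0, 1]

def ttY : List Nat := [2, 1, 3, 0, 2, 0, 3, 2, 0, 3, 1, 2]

end Cfsg.Agent.Helper56.Tits
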